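import Cfsg.Agent.Lib.S3431.Defs

set_option autoImplicit false

namespace Cfsg.Agent.S3431L

theorem AR0_primesOK_aux (S : List ℕ)
    (h : ∀ p ∈ (List.range 146), p.Prime → (S.any fun v => decide (p ∣ 1 + v ∧ (p - 1) ∣ v)) = true →
      p = 2 ∨ p = 3 ∨ p = 5 ∨ p = 7) : PrimesOK S := by
  intro p hp hpp hex
  refine h p (List.mem_range.mpr (by omega)) hpp ?_
  obtain ⟨v, hv, h1, h2⟩ := hex
  rw [List.any_eq_true]
  exact ⟨v, hv, by simpa using ⟨h1, h2⟩⟩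

theorem AR0_primesOK4 : PrimesOK [1, 3, 8] := by
  apply AR0_primesOK_aux
  decide +kernel

theorem AR0_primesOK5 : PrimesOK [1, 15, 20, 24] := by
  apply AR0_primesOK_aux
  decide +kernel

theorem AR0_primesOK6 : PrimesOK [1, 45, 80, 90, 144] := by
  apply AR0_primesOK_aux
  decide +kernel

theorem AR0_dvd_prime_pow_mul {p : ℕ} (hp : p.Prime) {a n m : ℕ} (h : m ∣ p ^ a * n) :
    ∃ i m', i ≤ a ∧ m' ∣ n ∧ m = p ^ i * m' := by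
  obtain ⟨x, y, hx, hy, rfl⟩ := (Nat.dvd_mul).mp h
  obtain ⟨i, hi, rfl⟩ := (Nat.dvd_prime_pow hp).mp hx
  exact ⟨i, y, hi, hy, rfl⟩

theorem AR0_mem_of_dvd {a b c d m : ℕ} (h : m ∣ 2 ^ a * 3 ^ b * 5 ^ c * 7 ^ d) :
    ∃ i j k l, i ≤ a ∧ j ≤ b ∧ k ≤ c ∧ l ≤ d ∧ m = 2 ^ i * 3 ^ j * 5 ^ k * 7 ^ l := by
  have h' : m ∣ 2 ^ a * (3 ^ b * (5 ^ c * 7 ^ d)) := by
    rwa [← mul_assoc, ← mul_assoc]
  obtain ⟨i, m1, hi, hm1, rfl⟩ := AR0_dvd_prime_pow_mul Nat.prime_two h'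
  obtain ⟨j, m2, hj, hm2, rfl⟩ := AR0_dvd_prime_pow_mul Nat.prime_three hm1
  obtain ⟨k, m3, hk, hm3, rfl⟩ := AR0_dvd_prime_pow_mul Nat.prime_five hm2
  obtain ⟨l, hl, rfl⟩ := (Nat.dvd_prime_pow (by norm_num : Nat.Prime 7)).mp hm3
  exact ⟨i, j, k, l, hi, hj, hk, hl, by ring⟩

theorem AR0_sum_eq {s : ℕ → ℕ} (K : List ℕ) (M : ℕ) (hM : M ≠ 0) (hnd : K.Nodup)
    (hsub : ∀ d ∈ K, d ∣ M) (hcov : ∀ d, d ∣ M → s d ≠ 0 → d ∈ K) :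
    (K.map s).sum = ∑ d ∈ M.divisors, s d := by
  rw [← List.sum_toFinset s hnd]
  apply Finset.sum_subset
  · intro d hd
    rw [List.mem_toFinset] at hd
    exact Nat.mem_divisors.mpr ⟨hsub d hd, hM⟩
  · intro d hd hnot
    by_contra hne
    exact hnot (List.mem_toFinset.mpr (hcov d (Nat.dvd_of_mem_divisors hd) hne))

end Cfsg.Agent.S3431L
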