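import Cfsg.Agent.Lib.S3431.Defs

set_option autoImplicit false

/-! # S3431, verified search (helper2's independent version, prefix `ARH_`)

A depth-first search over the divisors of `gcd(N, M0)` (in an order in which every divisor of `m`
comes before `m`), with the local tests: `s 1 = 1`, the prime-power totient conditions, Cauchy,
closedness under divisors and Frobenius' congruence; at a leaf: the total and "every value of `S`
is attained".  The search returns `true` iff every leaf that passes is the expected solution. -/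

namespace Cfsg.Agent.S3431L

/-- expected solution, given as a table -/
def ARH_E (El : List (ℕ × ℕ)) (m : ℕ) : ℕ := ((El.filter fun q => q.1 == m).map Prod.snd).sum

def ARH_ppOK (m v : ℕ) : Bool :=
  [2, 3, 5, 7].all fun p => (m % p != 0) ||
    (v % (p - 1) == 0 && (List.range 8).all fun e => (m % p ^ (e + 2) != 0) || v % p ^ (e + 1) == 0)

def ARH_ok (m v : ℕ) (acc : List (ℕ × ℕ)) : Bool :=
  (m != 1 || v == 1) && ARH_ppOK m v &&
  (!(m == 2 || m == 3 || m == 5 || m == 7) || v != 0) &&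
  (v == 0 || acc.all fun p => (m % p.1 != 0) || p.2 != 0) &&
  ((v + ((acc.filter fun p => m % p.1 == 0).map Prod.snd).sum) % m == 0)

def ARH_leaf (S : List ℕ) (N N0 : ℕ) (El : List (ℕ × ℕ)) (acc : List (ℕ × ℕ)) : Bool :=
  !((acc.map Prod.snd).sum == N && S.all fun v => (acc.map Prod.snd).contains v) ||
  (N == N0 && (acc.all fun p => p.2 == ARH_E El p.1) &&
    El.all fun q => (acc.map Prod.fst).contains q.1)

def ARH_step (S : List ℕ) (N N0 : ℕ) (El : List (ℕ × ℕ)) : List ℕ → List (ℕ × ℕ) → Bool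
  | [], acc => ARH_leaf S N N0 El acc
  | m :: rest, acc =>
    (0 :: S).all fun v => !(ARH_ok m v acc) || ARH_step S N N0 El rest ((m, v) :: acc)

/-! ## soundness -/

theorem ARH_sum_eq {s : ℕ → ℕ} (K : List ℕ) (M : ℕ) (hM : M ≠ 0) (hnd : K.Nodup)
    (hsub : ∀ d ∈ K, d ∣ M) (hcov : ∀ d, d ∣ M → s d ≠ 0 → d ∈ K) :
    (K.map s).sum = ∑ d ∈ M.divisors, s d := by
  rw [← List.sum_toFinset s hnd]
  apply Finset.sum_subset
  · intro d hd
    rw [List.mem_toFinset] at hd
    exact Nat.mem_divisors.mpr ⟨hsub d hd, hM⟩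
  · intro d hd hdK
    rw [List.mem_toFinset] at hdK
    by_contra hne
    exact hdK (hcov d (Nat.dvd_of_mem_divisors hd) hne)

theorem ARH_ppOK_of_tot {m v : ℕ} (ht : Nat.totient m ∣ v) : ARH_ppOK m v = true := by
  unfold ARH_ppOK
  rw [List.all_eq_true]
  intro p hp
  have hpp : p.Prime := by
    simp only [List.mem_cons, List.not_mem_nil, or_false] at hp
    rcases hp with rfl | rfl | rfl | rfl <;> norm_num
  by_cases hpm : m % p = 0
  · have hpd : p ∣ m := Nat.dvd_of_mod_eq_zero hpm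
    have h1 : p - 1 ∣ v := by
      have := Nat.totient_dvd_of_dvd hpd
      rw [Nat.totient_prime hpp] at this
      exact dvd_trans this ht
    have h2 : ∀ e, m % p ^ (e + 2) = 0 → v % p ^ (e + 1) = 0 := by
      intro e he
      have hd : p ^ (e + 2) ∣ m := Nat.dvd_of_mod_eq_zero he
      have := Nat.totient_dvd_of_dvd hd
      rw [Nat.totient_prime_pow hpp (by omega)] at this
      have h3 : p ^ (e + 1) ∣ v := by
        have h4 : p ^ (e + 1) ∣ p ^ (e + 2 - 1) * (p - 1) := by
          rw [show e + 2 - 1 = e + 1 by omega]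
          exact dvd_mul_right _ _
        exact dvd_trans h4 (dvd_trans this ht)
      exact Nat.mod_eq_zero_of_dvd h3
    simp only [Bool.or_eq_true, Bool.and_eq_true, bne_iff_ne, ne_eq, beq_iff_eq, List.all_eq_true]
    right
    refine ⟨Nat.mod_eq_zero_of_dvd h1, ?_⟩
    intro e _
    by_cases he : m % p ^ (e + 2) = 0
    · right; exact h2 e he
    · left; exact he
  · simp only [Bool.or_eq_true, bne_iff_ne, ne_eq]
    left; exact hpm

theorem ARH_ok_of_valid {S : List ℕ} {N : ℕ} {s : ℕ → ℕ} (h : Valid S N s)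
    {m : ℕ} (hmN : m ∣ N) (acc : List (ℕ × ℕ)) (hacc : ∀ p ∈ acc, s p.1 = p.2)
    (hfrob : s m + ((acc.filter fun p => m % p.1 == 0).map Prod.snd).sum
      = ∑ d ∈ m.divisors, s d) :
    ARH_ok m (s m) acc = true := by
  unfold ARH_ok
  simp only [Bool.and_eq_true]
  refine ⟨⟨⟨⟨?_, ARH_ppOK_of_tot (h.tot m)⟩, ?_⟩, ?_⟩, ?_⟩
  · by_cases hm1 : m = 1
    · subst hm1; simp [h.one]
    · simp [hm1]
  · simp only [Bool.or_eq_true, Bool.not_eq_true', bne_iff_ne, ne_eq]
    by_cases hm : (m == 2 || m == 3 || m == 5 || m == 7) = true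
    · right
      simp only [Bool.or_eq_true, beq_iff_eq] at hm
      have hp : m.Prime := by
        rcases hm with ((rfl | rfl) | rfl) | rfl <;> norm_num
      exact h.cauchy m hp hmN
    · left
      simpa using hm
  · simp only [Bool.or_eq_true, beq_iff_eq, List.all_eq_true, bne_iff_ne, ne_eq]
    by_cases hs : s m = 0
    · left; exact hs
    · right
      intro p hp
      by_cases hd : m % p.1 = 0
      · right
        rw [← hacc p hp]
        exact h.closed m p.1 hs (Nat.dvd_of_mod_eq_zero hd)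
      · left; exact hd
  · rw [hfrob, beq_iff_eq]
    exact Nat.mod_eq_zero_of_dvd (h.frob m hmN)

theorem ARH_step_sound {S : List ℕ} {N : ℕ} {s : ℕ → ℕ} (h : Valid S N s) (N0 : ℕ)
    (El : List (ℕ × ℕ)) (L : List ℕ) (hLp : L.Pairwise (fun m d => ¬ d ∣ m))
    (hLN : ∀ m ∈ L, m ∣ N) (hcov : ∀ d, s d ≠ 0 → d ∈ L) :
    ∀ (todo : List ℕ) (acc : List (ℕ × ℕ)), (acc.map Prod.fst).reverse ++ todo = L →
      (∀ p ∈ acc, s p.1 = p.2) → ARH_step S N N0 El todo acc = true →
      ARH_leaf S N N0 El ((todo.map fun m => (m, s m)).reverse ++ acc) = true := by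
  have hLnd : L.Nodup := by
    unfold List.Nodup
    refine hLp.imp ?_
    intro a b hab e
    apply hab
    rw [e]
  intro todo
  induction todo with
  | nil =>
    intro acc _ _ hstep
    simpa [ARH_step] using hstep
  | cons m rest ih =>
    intro acc hL hacc hstep
    have hmL : m ∈ L := by rw [← hL]; simp
    have hmN : m ∣ N := hLN m hmL
    have hm0 : m ≠ 0 := by
      rintro rfl
      rw [zero_dvd_iff] at hmN
      exact h.pos.ne' hmN
    have hsm : s m ∈ 0 :: S := by
      rcases h.mem m with h0 | h1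
      · rw [h0]; exact List.mem_cons_self
      · exact List.mem_cons_of_mem _ h1
    -- facts from `L = pre ++ m :: rest`
    have hLnd' := hLnd
    rw [← hL, List.nodup_append] at hLnd'
    obtain ⟨hpre_nd, -, hdisj⟩ := hLnd'
    have hLp' := hLp
    rw [← hL, List.pairwise_append] at hLp'
    obtain ⟨-, hmr, -⟩ := hLp'
    rw [List.pairwise_cons] at hmr
    have hrest : ∀ d ∈ rest, ¬ d ∣ m := hmr.1
    have haccF_nd : (acc.map Prod.fst).Nodup := List.nodup_reverse.mp hpre_nd
    have hm_notin : m ∉ acc.map Prod.fst := by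
      intro hmem
      exact hdisj m (List.mem_reverse.mpr hmem) m List.mem_cons_self rfl
    -- the Frobenius identity
    have hfrob : s m + ((acc.filter fun p => m % p.1 == 0).map Prod.snd).sum
        = ∑ d ∈ m.divisors, s d := by
      have hK := ARH_sum_eq (s := s) (m :: (acc.filter fun p => m % p.1 == 0).map Prod.fst) m hm0
        ?_ ?_ ?_
      · rw [← hK, List.map_cons, List.sum_cons, List.map_map]
        congr 2
        apply List.map_congr_left
        intro p hp
        exact (hacc p (List.mem_of_mem_filter hp)).symm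
      · rw [List.nodup_cons]
        refine ⟨?_, ?_⟩
        · intro hmem
          apply hm_notin
          obtain ⟨p, hp, hpm⟩ := List.mem_map.mp hmem
          exact List.mem_map.mpr ⟨p, List.mem_of_mem_filter hp, hpm⟩
        · exact haccF_nd.sublist (List.Sublist.map _ List.filter_sublist)
      · intro d hd
        rcases List.mem_cons.mp hd with rfl | hd
        · exact dvd_rfl
        · obtain ⟨p, hp, rfl⟩ := List.mem_map.mp hd
          have := (List.mem_filter.mp hp).2
          rw [beq_iff_eq] at this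
          exact Nat.dvd_of_mod_eq_zero this
      · intro d hdm hsd
        have hdL := hcov d hsd
        rw [← hL, List.mem_append] at hdL
        rcases hdL with hd | hd
        · rw [List.mem_reverse] at hd
          obtain ⟨p, hp, rfl⟩ := List.mem_map.mp hd
          apply List.mem_cons_of_mem
          apply List.mem_map.mpr
          refine ⟨p, List.mem_filter.mpr ⟨hp, ?_⟩, rfl⟩
          rw [beq_iff_eq]
          exact Nat.mod_eq_zero_of_dvd hdm
        · rcases List.mem_cons.mp hd with rfl | hd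
          · exact List.mem_cons_self
          · exact absurd hdm (hrest d hd)
    have hok := ARH_ok_of_valid h hmN acc hacc hfrob
    -- descend
    rw [ARH_step, List.all_eq_true] at hstep
    have h1 := hstep (s m) hsm
    rw [hok] at h1
    simp only [Bool.not_true, Bool.false_or] at h1
    have h2 := ih ((m, s m) :: acc) (by rw [← hL]; simp) (by
      intro p hp
      rcases List.mem_cons.mp hp with rfl | hp
      · rfl
      · exact hacc p hp) h1
    simpa [List.map_cons, List.reverse_cons, List.append_assoc] using h2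

theorem ARH_E_eq_zero {El : List (ℕ × ℕ)} {m : ℕ} (h : ∀ q ∈ El, q.1 ≠ m) : ARH_E El m = 0 := by
  unfold ARH_E
  have : (El.filter fun q => q.1 == m) = [] := by
    rw [List.filter_eq_nil_iff]
    intro q hq
    simpa using h q hq
  rw [this]; rfl

theorem ARH_leaf_sound {S : List ℕ} {N : ℕ} {s : ℕ → ℕ} (h : Valid S N s)
    (hS0 : ∀ v ∈ S, v ≠ 0) (N0 : ℕ) (El : List (ℕ × ℕ)) (L : List ℕ) (hLnd : L.Nodup)
    (hLN : ∀ m ∈ L, m ∣ N) (hcov : ∀ d, s d ≠ 0 → d ∈ L)
    (hleaf : ARH_leaf S N N0 El ((L.map fun m => (m, s m)).reverse) = true) :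
    N = N0 ∧ ∀ m, s m = ARH_E El m := by
  have hsnd : ((L.map fun m => (m, s m)).reverse).map Prod.snd = (L.map s).reverse := by
    rw [List.map_reverse, List.map_map]; rfl
  have hfst : ((L.map fun m => (m, s m)).reverse).map Prod.fst = L.reverse := by
    rw [List.map_reverse, List.map_map]
    congr 1
    exact List.map_id'' (fun _ => rfl) L
  unfold ARH_leaf at hleaf
  rw [hsnd, hfst] at hleaf
  have htot : ((L.map s).reverse).sum = N := by
    rw [List.sum_reverse, ARH_sum_eq L N h.pos.ne' hLnd hLN (fun d _ hd => hcov d hd)]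
    exact h.total
  have hatt : (S.all fun v => ((L.map s).reverse).contains v) = true := by
    rw [List.all_eq_true]
    intro v hv
    obtain ⟨m, hm⟩ := h.attained v hv
    have hmL : m ∈ L := hcov m (by rw [hm]; exact hS0 v hv)
    rw [List.contains_iff_mem, List.mem_reverse]
    exact List.mem_map.mpr ⟨m, hmL, hm⟩
  rw [htot, hatt] at hleaf
  simp only [beq_self_eq_true, Bool.and_self, Bool.not_true, Bool.false_or, Bool.and_eq_true,
    beq_iff_eq, List.all_eq_true] at hleaf
  obtain ⟨⟨hN, hall⟩, hEl⟩ := hleaf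
  refine ⟨hN, ?_⟩
  intro m
  by_cases hmL : m ∈ L
  · have := hall (m, s m) (List.mem_reverse.mpr (List.mem_map.mpr ⟨m, hmL, rfl⟩))
    exact this
  · have hs0 : s m = 0 := by
      by_contra hne
      exact hmL (hcov m hne)
    rw [hs0]
    symm
    apply ARH_E_eq_zero
    intro q hq hqm
    have := hEl q hq
    rw [List.contains_iff_mem, List.mem_reverse] at this
    exact hmL (hqm ▸ this)

/-! ## the divisor list of `gcd (2^a 3^b 5^c 7^d) M0` and the search over all tuples -/

def ARH_tval (a b c d : ℕ) : ℕ := 2 ^ a * 3 ^ b * 5 ^ c * 7 ^ d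

def ARH_divL (a b c d : ℕ) : List ℕ :=
  (List.range (min a 8 + 1)).flatMap fun i => (List.range (min b 4 + 1)).flatMap fun j =>
    (List.range (min c 3 + 1)).flatMap fun k => (List.range (min d 2 + 1)).map fun l =>
      2 ^ i * 3 ^ j * 5 ^ k * 7 ^ l

def ARH_ordOK : List ℕ → Bool
  | [] => true
  | m :: rest => (rest.all fun d => m % d != 0) && ARH_ordOK rest

theorem ARH_pairwise_of_ordOK : ∀ L : List ℕ, ARH_ordOK L = true →
    L.Pairwise (fun m d => ¬ d ∣ m)
  | [], _ => List.Pairwise.nil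
  | m :: rest, h => by
    rw [ARH_ordOK, Bool.and_eq_true, List.all_eq_true] at h
    rw [List.pairwise_cons]
    refine ⟨?_, ARH_pairwise_of_ordOK rest h.2⟩
    intro d hd hdm
    have := h.1 d hd
    rw [bne_iff_ne] at this
    exact this (Nat.mod_eq_zero_of_dvd hdm)

/-- a divisor of `2^a 3^b 5^c 7^d` is of the same shape -/
theorem ARH_exps_of_dvd {a b c d m : ℕ} (h : m ∣ 2 ^ a * 3 ^ b * 5 ^ c * 7 ^ d) :
    ∃ i j k l, i ≤ a ∧ j ≤ b ∧ k ≤ c ∧ l ≤ d ∧ m = 2 ^ i * 3 ^ j * 5 ^ k * 7 ^ l := by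
  obtain ⟨m1, m7, h1, h7, rfl⟩ := (Nat.dvd_mul).mp h
  obtain ⟨m2, m5, h2, h5, rfl⟩ := (Nat.dvd_mul).mp h1
  obtain ⟨m3, m4, h3, h4, rfl⟩ := (Nat.dvd_mul).mp h2
  obtain ⟨i, hi, rfl⟩ := (Nat.dvd_prime_pow Nat.prime_two).mp h3
  obtain ⟨j, hj, rfl⟩ := (Nat.dvd_prime_pow Nat.prime_three).mp h4
  obtain ⟨k, hk, rfl⟩ := (Nat.dvd_prime_pow Nat.prime_five).mp h5
  obtain ⟨l, hl, rfl⟩ := (Nat.dvd_prime_pow (by norm_num : Nat.Prime 7)).mp h7
  exact ⟨i, j, k, l, hi, hj, hk, hl, rfl⟩

theorem ARH_pow_le_of_dvd {p e i K : ℕ} (hp : p.Prime) (hcop : Nat.Coprime p K)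
    (h : p ^ i ∣ p ^ e * K) : i ≤ e := by
  have h1 : p ^ i ∣ p ^ e := (Nat.Coprime.pow_left i hcop).dvd_of_dvd_mul_right h
  exact (Nat.pow_dvd_pow_iff_le_right hp.one_lt).mp h1

theorem ARH_mem_divL {a b c d m : ℕ} (hN : m ∣ ARH_tval a b c d) (hM : m ∣ M0) :
    m ∈ ARH_divL a b c d := by
  obtain ⟨i, j, k, l, hi, hj, hk, hl, rfl⟩ := ARH_exps_of_dvd hN
  have hi8 : i ≤ 8 := by
    have h2 : 2 ^ i ∣ 2 ^ 8 * (3 ^ 4 * 5 ^ 3 * 7 ^ 2) := by
      have : 2 ^ i ∣ M0 := dvd_trans ⟨3 ^ j * 5 ^ k * 7 ^ l, by ring⟩ hM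
      unfold M0 at this
      convert this using 1; ring
    exact ARH_pow_le_of_dvd Nat.prime_two (by norm_num) h2
  have hj4 : j ≤ 4 := by
    have h2 : 3 ^ j ∣ 3 ^ 4 * (2 ^ 8 * 5 ^ 3 * 7 ^ 2) := by
      have : 3 ^ j ∣ M0 := dvd_trans ⟨2 ^ i * 5 ^ k * 7 ^ l, by ring⟩ hM
      unfold M0 at this
      convert this using 1; ring
    exact ARH_pow_le_of_dvd Nat.prime_three (by norm_num) h2
  have hk3 : k ≤ 3 := by
    have h2 : 5 ^ k ∣ 5 ^ 3 * (2 ^ 8 * 3 ^ 4 * 7 ^ 2) := by
      have : 5 ^ k ∣ M0 := dvd_trans ⟨2 ^ i * 3 ^ j * 7 ^ l, by ring⟩ hM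
      unfold M0 at this
      convert this using 1; ring
    exact ARH_pow_le_of_dvd Nat.prime_five (by norm_num) h2
  have hl2 : l ≤ 2 := by
    have h2 : 7 ^ l ∣ 7 ^ 2 * (2 ^ 8 * 3 ^ 4 * 5 ^ 3) := by
      have : 7 ^ l ∣ M0 := dvd_trans ⟨2 ^ i * 3 ^ j * 5 ^ k, by ring⟩ hM
      unfold M0 at this
      convert this using 1; ring
    exact ARH_pow_le_of_dvd (by norm_num) (by norm_num) h2
  unfold ARH_divL
  simp only [List.mem_flatMap, List.mem_range, List.mem_map]
  exact ⟨i, by omega, j, by omega, k, by omega, l, by omega, rfl⟩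

def ARH_checkTuple (S : List ℕ) (N0 : ℕ) (El : List (ℕ × ℕ)) (a b c d : ℕ) : Bool :=
  ARH_ordOK (ARH_divL a b c d) &&
  ((ARH_divL a b c d).all fun m => ARH_tval a b c d % m == 0) &&
  ARH_step S (ARH_tval a b c d) N0 El (ARH_divL a b c d) []

theorem ARH_tuple_sound {S : List ℕ} {s : ℕ → ℕ} {N0 : ℕ} {El : List (ℕ × ℕ)} {a b c d : ℕ}
    (hchk : ARH_checkTuple S N0 El a b c d = true) (hS0 : ∀ v ∈ S, v ≠ 0)
    (h : Valid S (ARH_tval a b c d) s) (hsupp : ∀ m, s m ≠ 0 → m ∣ M0) :
    ARH_tval a b c d = N0 ∧ ∀ m, s m = ARH_E El m := by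
  unfold ARH_checkTuple at hchk
  simp only [Bool.and_eq_true, List.all_eq_true, beq_iff_eq] at hchk
  obtain ⟨⟨hord, hdiv⟩, hstep⟩ := hchk
  have hLp := ARH_pairwise_of_ordOK _ hord
  have hLN : ∀ m ∈ ARH_divL a b c d, m ∣ ARH_tval a b c d :=
    fun m hm => Nat.dvd_of_mod_eq_zero (hdiv m hm)
  have hcov : ∀ m, s m ≠ 0 → m ∈ ARH_divL a b c d :=
    fun m hm => ARH_mem_divL (h.supp m hm) (hsupp m hm)
  have hLnd : (ARH_divL a b c d).Nodup := by
    unfold List.Nodup
    refine hLp.imp ?_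
    intro x y hxy e
    apply hxy
    rw [e]
  have hleaf := ARH_step_sound h N0 El _ hLp hLN hcov (ARH_divL a b c d) [] (by simp)
    (by intro p hp; cases hp) hstep
  rw [List.append_nil] at hleaf
  exact ARH_leaf_sound h hS0 N0 El _ hLnd hLN hcov hleaf

def ARH_checkAll (S : List ℕ) (N0 : ℕ) (El : List (ℕ × ℕ)) : Bool :=
  (List.range 17).all fun a => (List.range 11).all fun b => (List.range 7).all fun c =>
    (List.range 6).all fun d =>
      decide (77761 < ARH_tval a b c d) || ARH_checkTuple S N0 El a b c d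

/-- the search theorem: from the reductions P1–P4 to the unique solution -/
theorem ARH_main {S : List ℕ} {N : ℕ} {s : ℕ → ℕ} {N0 : ℕ} {El : List (ℕ × ℕ)}
    (hall : ARH_checkAll S N0 El = true) (hS0 : ∀ v ∈ S, v ≠ 0) (h : Valid S N s)
    (hsupp : ∀ m, s m ≠ 0 → m ∣ M0) (hle : N ≤ 77761)
    (hexp : ∃ a b c d : ℕ, N = 2 ^ a * 3 ^ b * 5 ^ c * 7 ^ d ∧ a ≤ 16 ∧ b ≤ 10 ∧ c ≤ 6 ∧ d ≤ 5) :
    N = N0 ∧ ∀ m, s m = ARH_E El m := by
  obtain ⟨a, b, c, d, hN, ha, hb, hc, hd⟩ := hexp
  unfold ARH_checkAll at hall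
  simp only [List.all_eq_true, List.mem_range, Bool.or_eq_true, decide_eq_true_eq] at hall
  have hN' : N = ARH_tval a b c d := hN
  rcases hall a (by omega) b (by omega) c (by omega) d (by omega) with hbig | hchk
  · rw [← hN'] at hbig; omega
  · rw [hN'] at h ⊢
    exact ARH_tuple_sound hchk hS0 h hsupp

end Cfsg.Agent.S3431L
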