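import Cfsg.Agent.Lib.S3431.Defs

set_option autoImplicit false

/-! # S3431, piece P1 (helper2): the primes dividing `N` -/

namespace Cfsg.Agent.S3431L

/-- P1: a prime divisor `p` of `N` has `s p ∈ S`, `p ∣ 1 + s p`, `p - 1 ∣ s p`, `s p ≤ 144` -/
theorem prime_mem {S : List ℕ} {N : ℕ} {s : ℕ → ℕ} (hS : ∀ v ∈ S, v ≤ 144) (hP : PrimesOK S)
    (h : Valid S N s) {p : ℕ} (hp : p.Prime) (hpN : p ∣ N) : p = 2 ∨ p = 3 ∨ p = 5 ∨ p = 7 := by
  have hsp : s p ≠ 0 := h.cauchy p hp hpN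
  have hmem : s p ∈ S := by
    rcases h.mem p with h0 | h1
    · exact absurd h0 hsp
    · exact h1
  have hle : s p ≤ 144 := hS _ hmem
  have hfrob := h.frob p hpN
  rw [Nat.Prime.divisors hp, Finset.sum_pair hp.one_lt.ne, h.one] at hfrob
  have htot := h.tot p
  rw [Nat.totient_prime hp] at htot
  have hp145 : p ≤ 145 := by
    have := Nat.le_of_dvd (by omega) hfrob
    omega
  exact hP p hp145 hp ⟨s p, hmem, hfrob, htot⟩

end Cfsg.Agent.S3431L
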