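import Cfsg.Agent.Lib.S3431.Defs

set_option autoImplicit false

/-! # S3431, piece P2 (helper2): an order that occurs divides `M0` -/

namespace Cfsg.Agent.S3431L

/-- if `p ^ (k - 1) * (p - 1) ≤ 144` fails for `k > e` then `k ≤ e` -/
theorem P2_exp_le {p e k : ℕ} (hp : 2 ≤ p) (hk : k ≠ 0) (hbig : 144 < p ^ e * (p - 1))
    (hle : p ^ (k - 1) * (p - 1) ≤ 144) : k ≤ e := by
  by_contra hcon
  push Not at hcon
  have h1 : e ≤ k - 1 := by omega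
  have h2 : p ^ e ≤ p ^ (k - 1) := Nat.pow_le_pow_right (by omega) h1
  have h3 : p ^ e * (p - 1) ≤ p ^ (k - 1) * (p - 1) := Nat.mul_le_mul_right _ h2
  omega

/-- P2: an order that occurs divides `M0` (for a prime power `q ∣ m`, `φ q ∣ φ m ∣ s m ≤ 144`) -/
theorem supp_dvd_M0 {S : List ℕ} {N : ℕ} {s : ℕ → ℕ} (hS : ∀ v ∈ S, v ≤ 144)
    (hprime : ∀ p : ℕ, p.Prime → p ∣ N → p = 2 ∨ p = 3 ∨ p = 5 ∨ p = 7)
    (h : Valid S N s) {m : ℕ} (hm : s m ≠ 0) : m ∣ M0 := by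
  have hmN : m ∣ N := h.supp m hm
  have hmem : s m ∈ S := by
    rcases h.mem m with h0 | h1
    · exact absurd h0 hm
    · exact h1
  have hle : s m ≤ 144 := hS _ hmem
  have htot : Nat.totient m ≤ 144 :=
    le_trans (Nat.le_of_dvd (Nat.pos_of_ne_zero hm) (h.tot m)) hle
  rw [Nat.dvd_iff_prime_pow_dvd_dvd]
  intro p k hp hpk
  by_cases hk : k = 0
  · rw [hk, pow_zero]; exact one_dvd _
  have hpm : p ∣ m := dvd_trans (dvd_pow_self p hk) hpk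
  have hpN : p ∣ N := dvd_trans hpm hmN
  have htk : Nat.totient (p ^ k) ≤ 144 := by
    have h1 : Nat.totient (p ^ k) ∣ Nat.totient m := Nat.totient_dvd_of_dvd hpk
    have hm0 : m ≠ 0 := by
      rintro rfl
      rw [zero_dvd_iff] at hmN
      exact h.pos.ne' hmN
    exact le_trans (Nat.le_of_dvd (Nat.totient_pos.mpr (Nat.pos_of_ne_zero hm0)) h1) htot
  rw [Nat.totient_prime_pow hp (Nat.pos_of_ne_zero hk)] at htk
  rcases hprime p hp hpN with rfl | rfl | rfl | rfl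
  · have hk8 : k ≤ 8 := P2_exp_le (p := 2) (e := 8) (by norm_num) hk (by norm_num) htk
    exact dvd_trans (pow_dvd_pow 2 hk8) ⟨3 ^ 4 * 5 ^ 3 * 7 ^ 2, by unfold M0; ring⟩
  · have hk4 : k ≤ 4 := P2_exp_le (p := 3) (e := 4) (by norm_num) hk (by norm_num) htk
    exact dvd_trans (pow_dvd_pow 3 hk4) ⟨2 ^ 8 * 5 ^ 3 * 7 ^ 2, by unfold M0; ring⟩
  · have hk3 : k ≤ 3 := P2_exp_le (p := 5) (e := 3) (by norm_num) hk (by norm_num) htk
    exact dvd_trans (pow_dvd_pow 5 hk3) ⟨2 ^ 8 * 3 ^ 4 * 7 ^ 2, by unfold M0; ring⟩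
  · have hk2 : k ≤ 2 := P2_exp_le (p := 7) (e := 2) (by norm_num) hk (by norm_num) htk
    exact dvd_trans (pow_dvd_pow 7 hk2) ⟨2 ^ 8 * 3 ^ 4 * 5 ^ 3, by unfold M0; ring⟩

end Cfsg.Agent.S3431L
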