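import Cfsg.Agent.Lib.S3431.Defs

set_option autoImplicit false

namespace Cfsg.Agent.S3431L

theorem P3_exp_le {p e N B : ℕ} (hp : 2 ≤ p) (hN : 0 < N) (hdvd : p ^ e ∣ N) (hle : N ≤ 77761)
    (hB : 77761 < p ^ (B + 1)) : e ≤ B := by
  by_contra hlt
  have h1 : B + 1 ≤ e := by omega
  have h2 : p ^ (B + 1) ≤ p ^ e := Nat.pow_le_pow_right (by omega) h1
  have h3 : p ^ e ≤ N := Nat.le_of_dvd hN hdvd
  omega

/-- P3: a `{2,3,5,7}`-number `≤ 77761` -/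
theorem exists_exps {N : ℕ} (hN : 0 < N) (hle : N ≤ 77761)
    (hprime : ∀ p : ℕ, p.Prime → p ∣ N → p = 2 ∨ p = 3 ∨ p = 5 ∨ p = 7) :
    ∃ a b c d : ℕ, N = 2 ^ a * 3 ^ b * 5 ^ c * 7 ^ d ∧ a ≤ 16 ∧ b ≤ 10 ∧ c ≤ 6 ∧ d ≤ 5 := by
  obtain ⟨a, N1, h2, e1⟩ := Nat.exists_eq_pow_mul_and_not_dvd hN.ne' 2 (by norm_num)
  have hN1 : N1 ≠ 0 := by
    rintro rfl
    rw [mul_zero] at e1
    omega
  obtain ⟨b, N2, h3, e2⟩ := Nat.exists_eq_pow_mul_and_not_dvd hN1 3 (by norm_num)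
  have hN2 : N2 ≠ 0 := by
    rintro rfl
    rw [mul_zero] at e2
    omega
  obtain ⟨c, N3, h5, e3⟩ := Nat.exists_eq_pow_mul_and_not_dvd hN2 5 (by norm_num)
  have hN3 : N3 ≠ 0 := by
    rintro rfl
    rw [mul_zero] at e3
    omega
  obtain ⟨d, N4, h7, e4⟩ := Nat.exists_eq_pow_mul_and_not_dvd hN3 7 (by norm_num)
  have d43 : N4 ∣ N3 := ⟨7 ^ d, by rw [e4, mul_comm]⟩
  have d32 : N3 ∣ N2 := ⟨5 ^ c, by rw [e3, mul_comm]⟩
  have d21 : N2 ∣ N1 := ⟨3 ^ b, by rw [e2, mul_comm]⟩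
  have d10 : N1 ∣ N := ⟨2 ^ a, by rw [e1, mul_comm]⟩
  have hN4 : N4 = 1 := by
    by_contra hne
    obtain ⟨p, hp, hpd⟩ := Nat.exists_prime_and_dvd hne
    have hpN : p ∣ N := hpd.trans (d43.trans (d32.trans (d21.trans d10)))
    rcases hprime p hp hpN with rfl | rfl | rfl | rfl
    · exact h2 (hpd.trans (d43.trans (d32.trans d21)))
    · exact h3 (hpd.trans (d43.trans d32))
    · exact h5 (hpd.trans d43)
    · exact h7 hpd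
  have hEq : N = 2 ^ a * 3 ^ b * 5 ^ c * 7 ^ d := by
    rw [e1, e2, e3, e4, hN4]; ring
  refine ⟨a, b, c, d, hEq, ?_, ?_, ?_, ?_⟩
  · exact P3_exp_le (p := 2) (by norm_num) hN ⟨3 ^ b * 5 ^ c * 7 ^ d, by rw [hEq]; ring⟩ hle
      (by norm_num)
  · exact P3_exp_le (p := 3) (by norm_num) hN ⟨2 ^ a * 5 ^ c * 7 ^ d, by rw [hEq]; ring⟩ hle
      (by norm_num)
  · exact P3_exp_le (p := 5) (by norm_num) hN ⟨2 ^ a * 3 ^ b * 7 ^ d, by rw [hEq]; ring⟩ hle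
      (by norm_num)
  · exact P3_exp_le (p := 7) (by norm_num) hN ⟨2 ^ a * 3 ^ b * 5 ^ c, by rw [hEq]; ring⟩ hle
      (by norm_num)

end Cfsg.Agent.S3431L
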