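import Cfsg.Agent.Lib.S3431.Defs

set_option autoImplicit false

namespace Cfsg.Agent.S3431L

theorem P4_card_divisors_prime_pow {p : ℕ} (hp : p.Prime) (k : ℕ) :
    (p ^ k).divisors.card = k + 1 := by
  rw [Nat.divisors_prime_pow hp, Finset.card_map, Finset.card_range]

theorem P4_card_divisors_M0 : M0.divisors.card = 540 := by
  unfold M0
  rw [Nat.Coprime.card_divisors_mul (by norm_num), Nat.Coprime.card_divisors_mul (by norm_num),
    Nat.Coprime.card_divisors_mul (by norm_num),
    P4_card_divisors_prime_pow (by norm_num), P4_card_divisors_prime_pow (by norm_num),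
    P4_card_divisors_prime_pow (by norm_num), P4_card_divisors_prime_pow (by norm_num)]

/-- P4: `N = ∑ s m ≤ 1 + 144 * (number of divisors of M0 - 1)`; `M0` has `9*5*4*3 = 540` divisors -/
theorem N_le {S : List ℕ} {N : ℕ} {s : ℕ → ℕ} (hS : ∀ v ∈ S, v ≤ 144)
    (hsupp : ∀ m, s m ≠ 0 → m ∣ M0) (h : Valid S N s) : N ≤ 77761 := by
  have hle : ∀ m, s m ≤ 144 := by
    intro m
    rcases h.mem m with h0 | hm
    · omega
    · exact hS _ hm
  have hM0 : M0 ≠ 0 := by unfold M0; norm_num
  calc N = ∑ m ∈ N.divisors, s m := h.total.symm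
    _ = ∑ m ∈ N.divisors.filter (fun m => m ∣ M0), s m := by
        rw [Finset.sum_filter]
        apply Finset.sum_congr rfl
        intro m _
        split_ifs with hm
        · rfl
        · by_contra hne
          exact hm (hsupp m hne)
    _ ≤ ∑ m ∈ M0.divisors, s m := by
        apply Finset.sum_le_sum_of_subset
        intro m hm
        rw [Finset.mem_filter] at hm
        exact Nat.mem_divisors.2 ⟨hm.2, hM0⟩
    _ ≤ ∑ _m ∈ M0.divisors, 144 := Finset.sum_le_sum (fun m _ => hle m)
    _ = 540 * 144 := by rw [Finset.sum_const, P4_card_divisors_M0]; rfl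
    _ ≤ 77761 := by norm_num

end Cfsg.Agent.S3431L
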