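import Cfsg.Agent.Lib.S3431.ARH
import Cfsg.Agent.Lib.S3431.AR0
import Cfsg.Agent.Lib.S3431.P1
import Cfsg.Agent.Lib.S3431.P2
import Cfsg.Agent.Lib.S3431.P3
import Cfsg.Agent.Lib.S3431.P4

set_option autoImplicit false

/-! # S3431: the three instances of the verified search (helper2's version, prefix `ARH_`)

`ARH_ar4`, `ARH_ar5`, `ARH_ar6` have the statements of the pieces `ar4`, `ar5`, `ar6`. -/

namespace Cfsg.Agent.S3431L

/-- all reductions P1–P4 combined with the verified search -/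
theorem ARH_reduce {S : List ℕ} {N : ℕ} {s : ℕ → ℕ} {N0 : ℕ} {El : List (ℕ × ℕ)}
    (hall : ARH_checkAll S N0 El = true) (hS0 : ∀ v ∈ S, v ≠ 0) (hS : ∀ v ∈ S, v ≤ 144)
    (hP : PrimesOK S) (h : Valid S N s) : N = N0 ∧ ∀ m, s m = ARH_E El m := by
  have hprime : ∀ p : ℕ, p.Prime → p ∣ N → p = 2 ∨ p = 3 ∨ p = 5 ∨ p = 7 :=
    fun p hp hpN => prime_mem hS hP h hp hpN
  have hsupp : ∀ m, s m ≠ 0 → m ∣ M0 := fun m hm => supp_dvd_M0 hS hprime h hm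
  have hle : N ≤ 77761 := N_le hS hsupp h
  exact ARH_main hall hS0 h hsupp hle (exists_exps h.pos hle hprime)

set_option maxRecDepth 100000 in
theorem ARH_chk4 : ARH_checkAll [1,3,8] 12 [(1,1),(2,3),(3,8)] = true := by decide +kernel

set_option maxRecDepth 100000 in
theorem ARH_chk5 : ARH_checkAll [1,15,20,24] 60 [(1,1),(2,15),(3,20),(5,24)] = true := by
  decide +kernel

set_option maxRecDepth 100000 in
theorem ARH_chk6 :
    ARH_checkAll [1,45,80,90,144] 360 [(1,1),(2,45),(3,80),(4,90),(5,144)] = true := by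
  decide +kernel

theorem ARH_ar4 {N : ℕ} {s : ℕ → ℕ} (h : Valid [1, 3, 8] N s) :
    N = 12 ∧ s 2 = 3 ∧ s 3 = 8 ∧ ∀ m, 3 < m → s m = 0 := by
  obtain ⟨hN, hs⟩ := ARH_reduce ARH_chk4 (by decide) (by decide) AR0_primesOK4 h
  refine ⟨hN, ?_, ?_, ?_⟩
  · rw [hs 2]; rfl
  · rw [hs 3]; rfl
  · intro m hm
    rw [hs m]
    apply ARH_E_eq_zero
    intro q hq
    simp only [List.mem_cons, List.not_mem_nil, or_false] at hq
    rcases hq with rfl | rfl | rfl <;> simp <;> omega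

theorem ARH_ar5 {N : ℕ} {s : ℕ → ℕ} (h : Valid [1, 15, 20, 24] N s) :
    N = 60 ∧ s 2 = 15 ∧ s 3 = 20 ∧ s 4 = 0 ∧ s 5 = 24 ∧ ∀ m, 5 < m → s m = 0 := by
  obtain ⟨hN, hs⟩ := ARH_reduce ARH_chk5 (by decide) (by decide) AR0_primesOK5 h
  refine ⟨hN, ?_, ?_, ?_, ?_, ?_⟩
  · rw [hs 2]; rfl
  · rw [hs 3]; rfl
  · rw [hs 4]; rfl
  · rw [hs 5]; rfl
  · intro m hm
    rw [hs m]
    apply ARH_E_eq_zero
    intro q hq
    simp only [List.mem_cons, List.not_mem_nil, or_false] at hq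
    rcases hq with rfl | rfl | rfl | rfl <;> simp <;> omega

theorem ARH_ar6 {N : ℕ} {s : ℕ → ℕ} (h : Valid [1, 45, 80, 90, 144] N s) :
    N = 360 ∧ s 2 = 45 ∧ s 3 = 80 ∧ s 4 = 90 ∧ s 5 = 144 ∧ ∀ m, 5 < m → s m = 0 := by
  obtain ⟨hN, hs⟩ := ARH_reduce ARH_chk6 (by decide) (by decide) AR0_primesOK6 h
  refine ⟨hN, ?_, ?_, ?_, ?_, ?_⟩
  · rw [hs 2]; rfl
  · rw [hs 3]; rfl
  · rw [hs 4]; rfl
  · rw [hs 5]; rfl
  · intro m hm
    rw [hs m]
    apply ARH_E_eq_zero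
    intro q hq
    simp only [List.mem_cons, List.not_mem_nil, or_false] at hq
    rcases hq with rfl | rfl | rfl | rfl | rfl <;> simp <;> omega

end Cfsg.Agent.S3431L
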