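import Mathlib

set_option autoImplicit false

namespace Cfsg.Agent.S3431L

/-- the arithmetic constraint system satisfied by `N = |G|` and `s m = #{g : orderOf g = m}`
when the set of same-order counts of `G` is (the set of members of) `S` -/
structure Valid (S : List ℕ) (N : ℕ) (s : ℕ → ℕ) : Prop where
  pos : 0 < N
  one : s 1 = 1
  mem : ∀ m, s m = 0 ∨ s m ∈ S
  tot : ∀ m, Nat.totient m ∣ s m
  frob : ∀ m, m ∣ N → m ∣ ∑ d ∈ m.divisors, s d
  supp : ∀ m, s m ≠ 0 → m ∣ N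
  total : ∑ m ∈ N.divisors, s m = N
  cauchy : ∀ p, p.Prime → p ∣ N → s p ≠ 0
  closed : ∀ m d, s m ≠ 0 → d ∣ m → s d ≠ 0
  attained : ∀ v ∈ S, ∃ m, s m = v

/-- `2^8 * 3^4 * 5^3 * 7^2` : every possible element order divides it (when all counts are `≤ 144`) -/
def M0 : ℕ := 2 ^ 8 * 3 ^ 4 * 5 ^ 3 * 7 ^ 2

/-- the only primes that can divide `|G|` -/
def PrimesOK (S : List ℕ) : Prop :=
  ∀ p, p ≤ 145 → p.Prime → (∃ v ∈ S, p ∣ 1 + v ∧ (p - 1) ∣ v) → p = 2 ∨ p = 3 ∨ p = 5 ∨ p = 7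

end Cfsg.Agent.S3431L
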