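import Mathlib
import Cfsg.Agent.Lib.S3431.Defs
import Cfsg.Agent.Lib.S3431.AR0

set_option autoImplicit false

namespace Cfsg.Agent.S3431L

/-- prime powers `q` with the value of `φ q` -/
def QL : List (ℕ × ℕ) :=
  [(2, 1), (4, 2), (8, 4), (16, 8), (32, 16), (64, 32), (128, 64), (256, 128), (512, 256),
   (3, 2), (9, 6), (27, 18), (81, 54), (243, 162), (5, 4), (25, 20), (125, 100), (625, 500),
   (7, 6), (49, 42), (343, 294)]

theorem AR_QL_spec : ∀ p ∈ QL, Nat.totient p.1 = p.2 := by
  intro p hp
  simp only [QL, List.mem_cons, List.not_mem_nil, or_false] at hp
  rcases hp with rfl | rfl | rfl | rfl | rfl | rfl | rfl | rfl | rfl | rfl | rfl | rfl | rfl | rfl |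
    rfl | rfl | rfl | rfl | rfl | rfl | rfl
  · exact Nat.totient_two
  · exact (Nat.totient_prime_pow Nat.prime_two (n := 2) (by norm_num))
  · exact (Nat.totient_prime_pow Nat.prime_two (n := 3) (by norm_num))
  · exact (Nat.totient_prime_pow Nat.prime_two (n := 4) (by norm_num))
  · exact (Nat.totient_prime_pow Nat.prime_two (n := 5) (by norm_num))
  · exact (Nat.totient_prime_pow Nat.prime_two (n := 6) (by norm_num))
  · exact (Nat.totient_prime_pow Nat.prime_two (n := 7) (by norm_num))
  · exact (Nat.totient_prime_pow Nat.prime_two (n := 8) (by norm_num))
  · exact (Nat.totient_prime_pow Nat.prime_two (n := 9) (by norm_num))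
  · exact Nat.totient_prime Nat.prime_three
  · exact (Nat.totient_prime_pow Nat.prime_three (n := 2) (by norm_num))
  · exact (Nat.totient_prime_pow Nat.prime_three (n := 3) (by norm_num))
  · exact (Nat.totient_prime_pow Nat.prime_three (n := 4) (by norm_num))
  · exact (Nat.totient_prime_pow Nat.prime_three (n := 5) (by norm_num))
  · exact Nat.totient_prime Nat.prime_five
  · exact (Nat.totient_prime_pow Nat.prime_five (n := 2) (by norm_num))
  · exact (Nat.totient_prime_pow Nat.prime_five (n := 3) (by norm_num))
  · exact (Nat.totient_prime_pow Nat.prime_five (n := 4) (by norm_num))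
  · exact Nat.totient_prime (by norm_num)
  · exact (Nat.totient_prime_pow (p := 7) (by norm_num) (n := 2) (by norm_num))
  · exact (Nat.totient_prime_pow (p := 7) (by norm_num) (n := 3) (by norm_num))

/-- the weak totient test -/
def wphi (m v : ℕ) : Bool := QL.all (fun p => m % p.1 != 0 || v % p.2 == 0)

theorem AR_wphi_of_dvd {m v : ℕ} (h : Nat.totient m ∣ v) : wphi m v = true := by
  unfold wphi
  rw [List.all_eq_true]
  intro p hp
  rw [Bool.or_eq_true]
  by_cases hm : m % p.1 = 0
  · right
    have h1 : p.1 ∣ m := Nat.dvd_of_mod_eq_zero hm
    have h2 : Nat.totient p.1 ∣ Nat.totient m := Nat.totient_dvd_of_dvd h1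
    rw [AR_QL_spec p hp] at h2
    have h3 : p.2 ∣ v := h2.trans h
    simpa using Nat.mod_eq_zero_of_dvd h3
  · left
    simpa using hm


/-- candidate values at `m` -/
def opts (S : List ℕ) (m : ℕ) : List ℕ := 0 :: S.filter (fun v => wphi m v)

/-- the local tests at `m` with value `v`, given the earlier assignments -/
def localOK (asg : List (ℕ × ℕ)) (m v : ℕ) : Bool :=
  (m != 1 || v == 1) &&
  ((((asg.filter (fun p => m % p.1 == 0)).map Prod.snd).sum + v) % m == 0) &&
  (v == 0 || asg.all (fun p => m % p.1 != 0 || p.2 != 0))

/-- all divisors of `m` in `L` other than `m` were treated before -/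
def structOK (L : List ℕ) (asg : List (ℕ × ℕ)) (m : ℕ) : Bool :=
  L.all (fun d => m % d != 0 || d == m || asg.any (fun p => p.1 == d))

/-- the search: `true` means "a solution may exist" -/
def dfs (S : List ℕ) (N : ℕ) (L : List ℕ) (excl : List (ℕ × ℕ) → Bool) :
    List ℕ → List (ℕ × ℕ) → Bool
  | [], asg =>
      decide ((asg.map Prod.snd).sum = N) && S.all (fun v => asg.any (fun p => p.2 == v)) && excl asg
  | m :: R, asg =>
      if structOK L asg m then
        (opts S m).any (fun v => localOK asg m v && dfs S N L excl R ((m, v) :: asg))
      else true

section sound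

variable {S : List ℕ} {N : ℕ} {s : ℕ → ℕ}

theorem AR_filter_map (P : List ℕ) (m : ℕ) :
    ((P.map (fun d => (d, s d))).filter (fun p => m % p.1 == 0)).map Prod.snd =
      (P.filter (fun d => m % d == 0)).map s := by
  rw [List.filter_map, List.map_map]
  rfl

theorem dfs_sound (h : Valid S N s) (hS0 : ∀ v ∈ S, v ≠ 0) (L : List ℕ) (hnd : L.Nodup)
    (hdvd : ∀ m ∈ L, m ∣ N) (hcov : ∀ m, s m ≠ 0 → m ∈ L) (excl : List (ℕ × ℕ) → Bool)
    (hex : excl (L.reverse.map (fun d => (d, s d))) = true) :
    ∀ (R P : List ℕ), P.reverse ++ R = L →
      dfs S N L excl R (P.map (fun d => (d, s d))) = true := by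
  have hN0 : N ≠ 0 := Nat.pos_iff_ne_zero.mp h.pos
  intro R
  induction R with
  | nil =>
    intro P hP
    rw [List.append_nil] at hP
    have hP' : P = L.reverse := by rw [← hP, List.reverse_reverse]
    unfold dfs
    rw [Bool.and_eq_true, Bool.and_eq_true]
    refine ⟨⟨?_, ?_⟩, ?_⟩
    · rw [decide_eq_true_eq, List.map_map]
      have h1 : (P.map (Prod.snd ∘ fun d => (d, s d))) = P.map s := rfl
      rw [h1, hP', List.map_reverse, List.sum_reverse]
      rw [AR0_sum_eq L N hN0 hnd hdvd (fun d _ hd => hcov d hd)]
      exact h.total
    · rw [List.all_eq_true]
      intro v hv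
      obtain ⟨m, hm⟩ := h.attained v hv
      have hm0 : s m ≠ 0 := by rw [hm]; exact hS0 v hv
      have hmL : m ∈ L := hcov m hm0
      rw [List.any_eq_true]
      refine ⟨(m, s m), ?_, ?_⟩
      · rw [hP', List.mem_map]
        exact ⟨m, List.mem_reverse.mpr hmL, rfl⟩
      · simp [hm]
    · rw [hP']; exact hex
  | cons m R ih =>
    intro P hP
    unfold dfs
    split_ifs with hst
    · rw [List.any_eq_true]
      refine ⟨s m, ?_, ?_⟩
      · -- `s m` is a candidate
        unfold opts
        rcases h.mem m with h0 | hmem
        · rw [h0]; exact List.mem_cons_self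
        · apply List.mem_cons_of_mem
          rw [List.mem_filter]
          exact ⟨hmem, AR_wphi_of_dvd (h.tot m)⟩
      · rw [Bool.and_eq_true]
        have hmL : m ∈ L := by rw [← hP]; simp
        have hmN : m ∣ N := hdvd m hmL
        have hm0 : m ≠ 0 := fun h0 => hN0 (by rw [h0] at hmN; exact Nat.eq_zero_of_zero_dvd hmN)
        have hLnd : (P.reverse ++ m :: R).Nodup := hP ▸ hnd
        have hPnd : P.Nodup := by
          have := (List.nodup_append.mp hLnd).1
          exact List.nodup_reverse.mp this
        have hmP : m ∉ P := by
          intro hc
          have h1 := (List.nodup_append.mp hLnd).2.2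
          exact h1 m (List.mem_reverse.mpr hc) m List.mem_cons_self rfl
        constructor
        · -- local tests
          unfold localOK
          rw [Bool.and_eq_true, Bool.and_eq_true]
          refine ⟨⟨?_, ?_⟩, ?_⟩
          · by_cases h1 : m = 1
            · rw [h1, h.one]; rfl
            · simp [h1]
          · -- Frobenius
            rw [AR_filter_map P m]
            have hK : ((m :: P.filter (fun d => m % d == 0)).map s).sum =
                ∑ d ∈ m.divisors, s d := by
              apply AR0_sum_eq _ m hm0
              · rw [List.nodup_cons]
                refine ⟨?_, hPnd.filter _⟩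
                intro hc
                exact hmP (List.mem_of_mem_filter hc)
              · intro d hd
                rcases List.mem_cons.mp hd with rfl | hd
                · exact dvd_rfl
                · have := (List.mem_filter.mp hd).2
                  exact Nat.dvd_of_mod_eq_zero (by simpa using this)
              · intro d hdm hsd
                have hdL : d ∈ L := hcov d hsd
                unfold structOK at hst
                rw [List.all_eq_true] at hst
                have := hst d hdL
                rw [Bool.or_eq_true, Bool.or_eq_true] at this
                rcases this with (h1 | h1) | h1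
                · exfalso
                  have : m % d = 0 := Nat.mod_eq_zero_of_dvd hdm
                  simp [this] at h1
                · have : d = m := by simpa using h1
                  rw [this]; exact List.mem_cons_self
                · rw [List.any_eq_true] at h1
                  obtain ⟨p, hp, hpd⟩ := h1
                  rw [List.mem_map] at hp
                  obtain ⟨d', hd'P, rfl⟩ := hp
                  have hdd : d' = d := by simpa using hpd
                  apply List.mem_cons_of_mem
                  rw [List.mem_filter]
                  refine ⟨hdd ▸ hd'P, ?_⟩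
                  have : m % d = 0 := Nat.mod_eq_zero_of_dvd hdm
                  simp [this]
            have hfr := h.frob m hmN
            rw [← hK, List.map_cons, List.sum_cons] at hfr
            have : (((P.filter (fun d => m % d == 0)).map s).sum + s m) % m = 0 := by
              rw [Nat.add_comm]
              exact Nat.mod_eq_zero_of_dvd hfr
            simpa using this
          · -- closure
            by_cases hsm : s m = 0
            · simp [hsm]
            · rw [Bool.or_eq_true]
              right
              rw [List.all_eq_true]
              intro p hp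
              rw [List.mem_map] at hp
              obtain ⟨d, _, rfl⟩ := hp
              rw [Bool.or_eq_true]
              by_cases hdm : m % d = 0
              · right
                have hd : d ∣ m := Nat.dvd_of_mod_eq_zero hdm
                have := h.closed m d hsm hd
                simpa using this
              · left
                simpa using hdm
        · -- recursive call
          have := ih (m :: P) (by rw [List.reverse_cons, List.append_assoc]; simpa using hP)
          simpa using this
    · rfl

end sound

end Cfsg.Agent.S3431L
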