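import Mathlib
import Cfsg.Agent.Lib.S3431.Defs
import Cfsg.Agent.Lib.S3431.Search

set_option autoImplicit false

namespace Cfsg.Agent.S3431L

/-- the divisors of `2^a*3^b*5^c*7^d`, in lexicographic order of the exponents -/
def divL (a b c d : ℕ) : List ℕ :=
  (List.range (a + 1)).flatMap fun i => (List.range (b + 1)).flatMap fun j =>
    (List.range (c + 1)).flatMap fun k => (List.range (d + 1)).map fun l => 2 ^ i * 3 ^ j * 5 ^ k * 7 ^ l

theorem AR_mem_divL {a b c d m : ℕ}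
    (h : ∃ i j k l, i ≤ a ∧ j ≤ b ∧ k ≤ c ∧ l ≤ d ∧ m = 2 ^ i * 3 ^ j * 5 ^ k * 7 ^ l) :
    m ∈ divL a b c d := by
  obtain ⟨i, j, k, l, hi, hj, hk, hl, rfl⟩ := h
  unfold divL
  simp only [List.mem_flatMap, List.mem_map, List.mem_range]
  exact ⟨i, Nat.lt_succ_of_le hi, j, Nat.lt_succ_of_le hj, k, Nat.lt_succ_of_le hk, l,
    Nat.lt_succ_of_le hl, rfl⟩

/-- the search for one `N = 2^a*3^b*5^c*7^d` -/
def check1 (S : List ℕ) (excl : List (ℕ × ℕ) → Bool) (a b c d : ℕ) : Bool :=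
  if decide ((divL a b c d).Nodup) && (divL a b c d).all (fun m => (2 ^ a * 3 ^ b * 5 ^ c * 7 ^ d) % m == 0)
  then dfs S (2 ^ a * 3 ^ b * 5 ^ c * 7 ^ d) (divL a b c d) excl (divL a b c d) [] else true

theorem AR_check1_sound {S : List ℕ} {N : ℕ} {s : ℕ → ℕ} (h : Valid S N s) (hS0 : ∀ v ∈ S, v ≠ 0)
    (a b c d : ℕ) (hN : N = 2 ^ a * 3 ^ b * 5 ^ c * 7 ^ d) (excl : List (ℕ × ℕ) → Bool)
    (hex : excl ((divL a b c d).reverse.map (fun m => (m, s m))) = true) :
    check1 S excl a b c d = true := by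
  unfold check1
  split_ifs with hpre
  · rw [Bool.and_eq_true, decide_eq_true_eq, List.all_eq_true] at hpre
    have hdvd : ∀ m ∈ divL a b c d, m ∣ N := by
      intro m hm
      rw [hN]
      exact Nat.dvd_of_mod_eq_zero (by simpa using hpre.2 m hm)
    have hcov : ∀ m, s m ≠ 0 → m ∈ divL a b c d := by
      intro m hm
      have := h.supp m hm
      rw [hN] at this
      exact AR_mem_divL (AR0_mem_of_dvd this)
    have := dfs_sound h hS0 (divL a b c d) hpre.1 hdvd hcov excl hex (divL a b c d) [] (by simp)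
    rw [← hN]
    exact this
  · rfl

/-- the whole box -/
def boxCheck (S : List ℕ) (tgtN : ℕ) : Bool :=
  (List.range 17).all fun a => (List.range 11).all fun b => (List.range 7).all fun c =>
    (List.range 6).all fun d =>
      decide (77761 < 2 ^ a * 3 ^ b * 5 ^ c * 7 ^ d) || (2 ^ a * 3 ^ b * 5 ^ c * 7 ^ d == tgtN) ||
        !(check1 S (fun _ => true) a b c d)

theorem AR_box_sound {S : List ℕ} {N : ℕ} {s : ℕ → ℕ} (h : Valid S N s) (hS0 : ∀ v ∈ S, v ≠ 0)
    (tgtN : ℕ) (hbox : boxCheck S tgtN = true) (hle : N ≤ 77761)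
    (a b c d : ℕ) (hN : N = 2 ^ a * 3 ^ b * 5 ^ c * 7 ^ d) (ha : a ≤ 16) (hb : b ≤ 10) (hc : c ≤ 6)
    (hd : d ≤ 5) : N = tgtN := by
  unfold boxCheck at hbox
  rw [List.all_eq_true] at hbox
  have h1 := hbox a (List.mem_range.mpr (by omega))
  rw [List.all_eq_true] at h1
  have h2 := h1 b (List.mem_range.mpr (by omega))
  rw [List.all_eq_true] at h2
  have h3 := h2 c (List.mem_range.mpr (by omega))
  rw [List.all_eq_true] at h3
  have h4 := h3 d (List.mem_range.mpr (by omega))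
  rw [Bool.or_eq_true, Bool.or_eq_true] at h4
  rcases h4 with (h5 | h5) | h5
  · rw [decide_eq_true_eq, ← hN] at h5
    omega
  · rw [hN]
    simpa using h5
  · exfalso
    have := AR_check1_sound h hS0 a b c d hN (fun _ => true) rfl
    rw [this] at h5
    simp at h5

/-- exclusion of the expected solution -/
def exclT (tgt : ℕ → ℕ) (asg : List (ℕ × ℕ)) : Bool := !(asg.all (fun p => p.2 == tgt p.1))

theorem AR_values {S : List ℕ} {N : ℕ} {s : ℕ → ℕ} (h : Valid S N s) (hS0 : ∀ v ∈ S, v ≠ 0)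
    (a b c d : ℕ) (hN : N = 2 ^ a * 3 ^ b * 5 ^ c * 7 ^ d) (tgt : ℕ → ℕ)
    (hchk : check1 S (exclT tgt) a b c d = false) : ∀ m ∈ divL a b c d, s m = tgt m := by
  by_contra hcon
  push_neg at hcon
  obtain ⟨m, hm, hne⟩ := hcon
  have hex : exclT tgt ((divL a b c d).reverse.map (fun m => (m, s m))) = true := by
    unfold exclT
    rw [Bool.not_eq_true', List.all_eq_false]
    refine ⟨(m, s m), ?_, ?_⟩
    · rw [List.mem_map]
      exact ⟨m, List.mem_reverse.mpr hm, rfl⟩
    · simpa using hne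
  have := AR_check1_sound h hS0 a b c d hN (exclT tgt) hex
  rw [hchk] at this
  exact Bool.false_ne_true this

end Cfsg.Agent.S3431L
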