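import Mathlib

set_option autoImplicit false

/-! # S3431, piece C4 (helper8): the same-order counts of `A_4`, and the generic tools for C5, C6

`orderOf g = m` is replaced by a decidable predicate on `Perm (Fin n)` (`g ^ p = 1 ∧ g ≠ 1` for a
prime `p`, `g ^ 4 = 1 ∧ g ^ 2 ≠ 1` for `m = 4`), the counts are then evaluated by `decide`. -/

namespace Cfsg.Agent.S3431L

/-- transfer of a count from the subgroup `A_n` to a filter on `Perm (Fin n)` -/
theorem C4_card_eq_of_iff {n : ℕ} (m : ℕ) (Q : Equiv.Perm (Fin n) → Prop) [DecidablePred Q]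
    (hQ : ∀ g : Equiv.Perm (Fin n), orderOf g = m ↔ Q g) :
    Nat.card {g : ↥(alternatingGroup (Fin n)) // orderOf g = m}
      = (Finset.univ.filter
          (fun g : Equiv.Perm (Fin n) => Equiv.Perm.sign g = 1 ∧ Q g)).card := by
  classical
  have e : {g : ↥(alternatingGroup (Fin n)) // orderOf g = m}
      ≃ {g : Equiv.Perm (Fin n) // Equiv.Perm.sign g = 1 ∧ Q g} :=
    { toFun := fun g => ⟨g.1.1, Equiv.Perm.mem_alternatingGroup.mp g.1.2, by
        have h := g.2
        rw [← Subgroup.orderOf_coe] at h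
        exact (hQ _).mp h⟩
      invFun := fun g => ⟨⟨g.1, Equiv.Perm.mem_alternatingGroup.mpr g.2.1⟩, by
        rw [← Subgroup.orderOf_coe]
        exact (hQ _).mpr g.2.2⟩
      left_inv := fun g => by
        apply Subtype.ext
        apply Subtype.ext
        rfl
      right_inv := fun g => by
        apply Subtype.ext
        rfl }
  rw [Nat.card_congr e, Nat.card_eq_fintype_card, Fintype.card_subtype]

theorem C4_orderOf_eq_one_iff {G : Type*} [Group G] (g : G) : orderOf g = 1 ↔ g = 1 :=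
  orderOf_eq_one_iff

theorem C4_orderOf_eq_prime_iff {G : Type*} [Group G] (g : G) (p : ℕ) [hp : Fact p.Prime] :
    orderOf g = p ↔ (g ^ p = 1 ∧ g ≠ 1) :=
  orderOf_eq_prime_iff

theorem C4_orderOf_eq_four_iff {G : Type*} [Group G] (g : G) :
    orderOf g = 4 ↔ (g ^ 4 = 1 ∧ g ^ 2 ≠ 1) := by
  constructor
  · intro h
    refine ⟨by rw [← h]; exact pow_orderOf_eq_one g, fun h2 => ?_⟩
    have := orderOf_dvd_of_pow_eq_one h2
    rw [h] at this
    omega
  · rintro ⟨h4, h2⟩
    have : orderOf g = 2 ^ (1 + 1) := by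
      apply orderOf_eq_prime_pow
      · simpa using h2
      · simpa using h4
    simpa using this

/-- the set of same-order counts, from a table `c` on a list `ms` of orders covering the group -/
theorem C4_image_eq {G : Type*} [Group G] [Finite G] (ms : List ℕ) (c : ℕ → ℕ)
    (hc : ∀ m ∈ ms, Nat.card {g : G // orderOf g = m} = c m) (hpos : ∀ m ∈ ms, c m ≠ 0)
    (hall : ∀ g : G, orderOf g ∈ ms) (L : List ℕ) (hL : ∀ v, v ∈ L ↔ ∃ m ∈ ms, c m = v) :
    ((fun m : ℕ => Nat.card {g : G // orderOf g = m}) '' Set.range (orderOf : G → ℕ))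
      = {v | v ∈ L} := by
  ext v
  simp only [Set.mem_image, Set.mem_range, Set.mem_ofPred_eq]
  constructor
  · rintro ⟨m, ⟨g, rfl⟩, rfl⟩
    rw [hL]
    exact ⟨orderOf g, hall g, (hc _ (hall g)).symm⟩
  · intro hv
    obtain ⟨m, hm, rfl⟩ := (hL v).mp hv
    have h1 : Nat.card {g : G // orderOf g = m} ≠ 0 := by
      rw [hc m hm]; exact hpos m hm
    have h2 : Nonempty {g : G // orderOf g = m} := by
      by_contra hne
      rw [not_nonempty_iff] at hne
      exact h1 Nat.card_of_isEmpty
    obtain ⟨⟨g, hg⟩⟩ := h2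
    exact ⟨m, ⟨g, hg⟩, hc m hm⟩

/-- every element of `A_4` has order `1, 2, 3` -/
theorem C4_orders : ∀ g : Equiv.Perm (Fin 4), Equiv.Perm.sign g = 1 → g ^ 2 = 1 ∨ g ^ 3 = 1 := by
  decide +kernel

theorem C4_count1 : (Finset.univ.filter (fun g : Equiv.Perm (Fin 4) =>
    Equiv.Perm.sign g = 1 ∧ g = 1)).card = 1 := by decide +kernel

theorem C4_count2 : (Finset.univ.filter (fun g : Equiv.Perm (Fin 4) =>
    Equiv.Perm.sign g = 1 ∧ (g ^ 2 = 1 ∧ g ≠ 1))).card = 3 := by decide +kernel

theorem C4_count3 : (Finset.univ.filter (fun g : Equiv.Perm (Fin 4) =>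
    Equiv.Perm.sign g = 1 ∧ (g ^ 3 = 1 ∧ g ≠ 1))).card = 8 := by decide +kernel

theorem nse_alt4 : ((fun m : ℕ => Nat.card {g : ↥(alternatingGroup (Fin 4)) // orderOf g = m}) ''
    Set.range (orderOf : ↥(alternatingGroup (Fin 4)) → ℕ)) = {v | v ∈ [1, 3, 8]} := by
  have : Fact (Nat.Prime 2) := ⟨Nat.prime_two⟩
  have : Fact (Nat.Prime 3) := ⟨Nat.prime_three⟩
  refine C4_image_eq [1, 2, 3] (fun m => if m = 1 then 1 else if m = 2 then 3 else 8)
    ?_ ?_ ?_ [1, 3, 8] ?_
  · intro m hm
    simp only [List.mem_cons, List.not_mem_nil, or_false] at hm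
    rcases hm with rfl | rfl | rfl
    · rw [C4_card_eq_of_iff 1 (fun g => g = 1) (fun g => C4_orderOf_eq_one_iff g), C4_count1]
      rfl
    · rw [C4_card_eq_of_iff 2 (fun g => g ^ 2 = 1 ∧ g ≠ 1)
        (fun g => C4_orderOf_eq_prime_iff g 2), C4_count2]
      rfl
    · rw [C4_card_eq_of_iff 3 (fun g => g ^ 3 = 1 ∧ g ≠ 1)
        (fun g => C4_orderOf_eq_prime_iff g 3), C4_count3]
      rfl
  · intro m hm
    simp only [List.mem_cons, List.not_mem_nil, or_false] at hm
    rcases hm with rfl | rfl | rfl <;> simp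
  · intro g
    have hs : Equiv.Perm.sign (g : Equiv.Perm (Fin 4)) = 1 :=
      Equiv.Perm.mem_alternatingGroup.mp g.2
    have hd : orderOf g ∣ 2 ∨ orderOf g ∣ 3 := by
      rcases C4_orders _ hs with h | h
      · left
        apply orderOf_dvd_of_pow_eq_one
        apply Subtype.ext
        simpa using h
      · right
        apply orderOf_dvd_of_pow_eq_one
        apply Subtype.ext
        simpa using h
    simp only [List.mem_cons, List.not_mem_nil, or_false]
    rcases hd with h | h
    · rcases (Nat.dvd_prime Nat.prime_two).mp h with h | h <;> simp [h]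
    · rcases (Nat.dvd_prime Nat.prime_three).mp h with h | h <;> simp [h]
  · intro v
    simp only [List.mem_cons, List.not_mem_nil, or_false, exists_eq_or_imp, exists_eq_left]
    simp
    tauto

end Cfsg.Agent.S3431L
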