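import Mathlib
import Cfsg.Agent.Lib.S3431.C4

set_option autoImplicit false

/-! # S3431, piece C5 (helper8): the same-order counts of `A_5` -/

namespace Cfsg.Agent.S3431L

/-- every element of `A_5` has order `1, 2, 3, 5` -/
theorem C5_orders : ∀ g : Equiv.Perm (Fin 5), Equiv.Perm.sign g = 1 →
    g ^ 2 = 1 ∨ g ^ 3 = 1 ∨ g ^ 5 = 1 := by
  decide +kernel

theorem C5_count1 : (Finset.univ.filter (fun g : Equiv.Perm (Fin 5) =>
    Equiv.Perm.sign g = 1 ∧ g = 1)).card = 1 := by decide +kernel

theorem C5_count2 : (Finset.univ.filter (fun g : Equiv.Perm (Fin 5) =>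
    Equiv.Perm.sign g = 1 ∧ (g ^ 2 = 1 ∧ g ≠ 1))).card = 15 := by decide +kernel

theorem C5_count3 : (Finset.univ.filter (fun g : Equiv.Perm (Fin 5) =>
    Equiv.Perm.sign g = 1 ∧ (g ^ 3 = 1 ∧ g ≠ 1))).card = 20 := by decide +kernel

theorem C5_count5 : (Finset.univ.filter (fun g : Equiv.Perm (Fin 5) =>
    Equiv.Perm.sign g = 1 ∧ (g ^ 5 = 1 ∧ g ≠ 1))).card = 24 := by decide +kernel

theorem nse_alt5 : ((fun m : ℕ => Nat.card {g : ↥(alternatingGroup (Fin 5)) // orderOf g = m}) ''
    Set.range (orderOf : ↥(alternatingGroup (Fin 5)) → ℕ)) = {v | v ∈ [1, 15, 20, 24]} := by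
  have : Fact (Nat.Prime 2) := ⟨Nat.prime_two⟩
  have : Fact (Nat.Prime 3) := ⟨Nat.prime_three⟩
  have : Fact (Nat.Prime 5) := ⟨Nat.prime_five⟩
  refine C4_image_eq [1, 2, 3, 5]
    (fun m => if m = 1 then 1 else if m = 2 then 15 else if m = 3 then 20 else 24)
    ?_ ?_ ?_ [1, 15, 20, 24] ?_
  · intro m hm
    simp only [List.mem_cons, List.not_mem_nil, or_false] at hm
    rcases hm with rfl | rfl | rfl | rfl
    · rw [C4_card_eq_of_iff 1 (fun g => g = 1) (fun g => C4_orderOf_eq_one_iff g), C5_count1]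
      rfl
    · rw [C4_card_eq_of_iff 2 (fun g => g ^ 2 = 1 ∧ g ≠ 1)
        (fun g => C4_orderOf_eq_prime_iff g 2), C5_count2]
      rfl
    · rw [C4_card_eq_of_iff 3 (fun g => g ^ 3 = 1 ∧ g ≠ 1)
        (fun g => C4_orderOf_eq_prime_iff g 3), C5_count3]
      rfl
    · rw [C4_card_eq_of_iff 5 (fun g => g ^ 5 = 1 ∧ g ≠ 1)
        (fun g => C4_orderOf_eq_prime_iff g 5), C5_count5]
      rfl
  · intro m hm
    simp only [List.mem_cons, List.not_mem_nil, or_false] at hm
    rcases hm with rfl | rfl | rfl | rfl <;> simp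
  · intro g
    have hs : Equiv.Perm.sign (g : Equiv.Perm (Fin 5)) = 1 :=
      Equiv.Perm.mem_alternatingGroup.mp g.2
    have hd : orderOf g ∣ 2 ∨ orderOf g ∣ 3 ∨ orderOf g ∣ 5 := by
      rcases C5_orders _ hs with h | h | h
      · left
        apply orderOf_dvd_of_pow_eq_one
        apply Subtype.ext
        simpa using h
      · right; left
        apply orderOf_dvd_of_pow_eq_one
        apply Subtype.ext
        simpa using h
      · right; right
        apply orderOf_dvd_of_pow_eq_one
        apply Subtype.ext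
        simpa using h
    simp only [List.mem_cons, List.not_mem_nil, or_false]
    rcases hd with h | h | h
    · rcases (Nat.dvd_prime Nat.prime_two).mp h with h | h <;> simp [h]
    · rcases (Nat.dvd_prime Nat.prime_three).mp h with h | h <;> simp [h]
    · rcases (Nat.dvd_prime Nat.prime_five).mp h with h | h <;> simp [h]
  · intro v
    simp only [List.mem_cons, List.not_mem_nil, or_false, exists_eq_or_imp, exists_eq_left]
    simp
    tauto

end Cfsg.Agent.S3431L
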