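import Cfsg.Agent.Lib.S3431.Defs

set_option autoImplicit false
set_option linter.style.haveILetI false

namespace Cfsg.Agent.S3431L

/-- in a group with a normal Sylow 3-subgroup of order 3 there are at most 2 elements of order 3 -/
theorem G4_card_le_of_normal {G : Type*} [Group G] [Finite G] [Fact (Nat.Prime 3)]
    (P : Sylow 3 G) (hP : Nat.card P = 3) (hn : (P : Subgroup G).Normal) :
    Nat.card {g : G // orderOf g = 3} ≤ 2 := by
  classical
  haveI : Unique (Sylow 3 G) := Sylow.unique_of_normal P hn
  -- every element of order 3 lies in `P`, and is not `1`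
  have hmem : ∀ g : G, orderOf g = 3 → g ∈ (P : Subgroup G) := by
    intro g hg
    have hpg : IsPGroup 3 (Subgroup.zpowers g) := by
      apply IsPGroup.of_card (n := 1)
      rw [Nat.card_zpowers, hg, pow_one]
    obtain ⟨Q, hQ⟩ := hpg.exists_le_sylow
    have : Q = P := Subsingleton.elim _ _
    rw [this] at hQ
    exact hQ (Subgroup.mem_zpowers g)
  -- inject into `{x : P // x ≠ 1}`
  have hcard : Nat.card {x : (P : Subgroup G) // x ≠ 1} = 2 := by
    have h1 : Nat.card {x : (P : Subgroup G) // x ≠ 1} + 1 = Nat.card (P : Subgroup G) := by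
      haveI : Fintype (P : Subgroup G) := Fintype.ofFinite _
      rw [Nat.card_eq_fintype_card, Nat.card_eq_fintype_card, Fintype.card_subtype_compl,
        Fintype.card_subtype_eq]
      have : 0 < Fintype.card (P : Subgroup G) := Fintype.card_pos
      omega
    omega
  rw [← hcard]
  refine Nat.card_le_card_of_injective
    (fun g : {g : G // orderOf g = 3} => (⟨⟨g.1, hmem g.1 g.2⟩, ?_⟩ : {x : (P : Subgroup G) // x ≠ 1})) ?_
  · intro h
    have h1 : g.1 = 1 := congrArg Subtype.val h
    have := g.2
    rw [h1, orderOf_one] at this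
    omega
  · intro a b hab
    apply Subtype.ext
    have := congrArg (fun x : {x : (P : Subgroup G) // x ≠ 1} => (x.1 : G)) hab
    exact this

theorem iso_alt4 {G : Type*} [Group G] [Finite G] (hN : Nat.card G = 12)
    (h3 : Nat.card {g : G // orderOf g = 3} = 8) :
    Nonempty (G ≃* ↥(alternatingGroup (Fin 4))) := by
  classical
  haveI : Fact (Nat.Prime 3) := ⟨by norm_num⟩
  obtain ⟨P⟩ : Nonempty (Sylow 3 G) := inferInstance
  have hfac : Nat.factorization 12 3 = 1 := by
    have h12 : (12 : ℕ) = 4 * 3 := by norm_num
    rw [h12, Nat.factorization_mul (by norm_num) (by norm_num)]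
    have h4 : Nat.factorization 4 3 = 0 := Nat.factorization_eq_zero_of_not_dvd (by norm_num)
    have h33 : Nat.factorization 3 3 = 1 := by
      rw [Nat.Prime.factorization (by norm_num : Nat.Prime 3)]; simp
    simp [h4, h33]
  have hP : Nat.card P = 3 := by
    rw [Sylow.card_eq_multiplicity, hN, hfac, pow_one]
  have hidx : (P : Subgroup G).index = 4 := by
    have := (P : Subgroup G).card_mul_index
    rw [hN] at this
    have hP' : Nat.card (P : Subgroup G) = 3 := hP
    rw [hP'] at this
    omega
  -- the action on the cosets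
  let φ : G →* Equiv.Perm (G ⧸ (P : Subgroup G)) := MulAction.toPermHom G (G ⧸ (P : Subgroup G))
  have hker : φ.ker = ⊥ := by
    have hcore : (P : Subgroup G).normalCore = φ.ker := Subgroup.normalCore_eq_ker _
    rw [← hcore]
    have hle : (P : Subgroup G).normalCore ≤ (P : Subgroup G) := Subgroup.normalCore_le _
    have hdvd : Nat.card (P : Subgroup G).normalCore ∣ 3 := by
      have := Subgroup.card_dvd_of_le hle
      rwa [show Nat.card (P : Subgroup G) = 3 from hP] at this
    rcases (Nat.dvd_prime (by norm_num : Nat.Prime 3)).1 hdvd with h1 | h3'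
    · exact Subgroup.card_eq_one.1 h1
    · exfalso
      have heq : (P : Subgroup G).normalCore = (P : Subgroup G) := by
        apply Subgroup.eq_of_le_of_card_ge hle
        rw [h3', show Nat.card (P : Subgroup G) = 3 from hP]
      have hn : (P : Subgroup G).Normal := by
        rw [← heq]; infer_instance
      have := G4_card_le_of_normal P hP hn
      omega
  have hinj : Function.Injective φ := (MonoidHom.ker_eq_bot_iff φ).1 hker
  -- transport to `Fin 4`
  have hcard4 : Nat.card (G ⧸ (P : Subgroup G)) = 4 := hidx
  haveI : Finite (G ⧸ (P : Subgroup G)) := Nat.finite_of_card_ne_zero (by rw [hcard4]; norm_num)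
  have e : (G ⧸ (P : Subgroup G)) ≃ Fin 4 := Finite.equivFinOfCardEq hcard4
  let ψ : G →* Equiv.Perm (Fin 4) := (e.permCongrHom : _ →* _).comp φ
  have hψ : Function.Injective ψ := by
    intro a b hab
    exact hinj (e.permCongrHom.injective hab)
  have hrange : Nat.card ψ.range = 12 := by
    rw [← hN]
    exact (Nat.card_congr (MonoidHom.ofInjective hψ).toEquiv).symm
  have hindex : ψ.range.index = 2 := by
    have := ψ.range.card_mul_index
    rw [hrange] at this
    have h24 : Nat.card (Equiv.Perm (Fin 4)) = 24 := by
      rw [Nat.card_eq_fintype_card, Fintype.card_perm, Fintype.card_fin]; rfl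
    rw [h24] at this
    omega
  have halt : ψ.range = alternatingGroup (Fin 4) :=
    Equiv.Perm.eq_alternatingGroup_of_index_eq_two hindex
  exact ⟨(MonoidHom.ofInjective hψ).trans (MulEquiv.subgroupCongr halt)⟩

end Cfsg.Agent.S3431L
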