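import Mathlib
import Cfsg.Agent.Lib.S3431.Defs

set_option autoImplicit false

namespace Cfsg.Agent.S3431L

/-- an element whose order is coprime to the index of a normal subgroup lies in it -/
theorem GAux_mem_of_coprime_index {G : Type*} [Group G] [Finite G] (N : Subgroup G) [N.Normal]
    (y : G) (h : (orderOf y).Coprime N.index) : y ∈ N := by
  rw [← QuotientGroup.eq_one_iff (N := N)]
  have h1 : orderOf (y : G ⧸ N) ∣ orderOf y := by
    apply orderOf_dvd_of_pow_eq_one
    rw [← QuotientGroup.mk_pow, pow_orderOf_eq_one]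
    rfl
  have h2 : orderOf (y : G ⧸ N) ∣ N.index := by
    rw [Subgroup.index_eq_card]
    exact orderOf_dvd_natCard _
  have h3 : orderOf (y : G ⧸ N) = 1 := Nat.dvd_one.mp (h ▸ Nat.dvd_gcd h1 h2)
  exact orderOf_eq_one_iff.mp h3

/-- counting elements by order -/
theorem GAux_sum_cnt {G : Type*} [Group G] [Finite G] (T : Finset ℕ) :
    ∑ m ∈ T, Nat.card {g : G // orderOf g = m} = Nat.card {g : G // orderOf g ∈ T} := by
  classical
  haveI := Fintype.ofFinite G
  simp only [Nat.card_eq_fintype_card, Fintype.card_subtype]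
  rw [Finset.card_eq_sum_card_fiberwise (f := orderOf)
    (s := Finset.univ.filter (fun g : G => orderOf g ∈ T)) (t := T) (by intro x hx; simpa using hx)]
  apply Finset.sum_congr rfl
  intro m hm
  congr 1
  ext g
  simp only [Finset.mem_filter, Finset.mem_univ, true_and]
  constructor
  · intro h; exact ⟨h ▸ hm, h⟩
  · intro h; exact h.2

theorem GAux_sum_cnt_le_card {G : Type*} [Group G] [Finite G] (T : Finset ℕ) :
    ∑ m ∈ T, Nat.card {g : G // orderOf g = m} ≤ Nat.card G := by
  rw [GAux_sum_cnt]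
  exact Nat.card_le_card_of_injective _ Subtype.val_injective

/-- if the counts over `T` exhaust the group, every element has its order in `T` -/
theorem GAux_orderOf_mem {G : Type*} [Group G] [Finite G] (T : Finset ℕ)
    (h : ∑ m ∈ T, Nat.card {g : G // orderOf g = m} = Nat.card G) (g : G) : orderOf g ∈ T := by
  rw [GAux_sum_cnt] at h
  have hb := Function.Injective.bijective_of_nat_card_le
    (f := (Subtype.val : {g : G // orderOf g ∈ T} → G)) Subtype.val_injective h.ge
  obtain ⟨s, rfl⟩ := hb.2 g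
  exact s.2

/-- the orders in `T` being coprime to the index of `N`, the elements with order in `T` lie in `N` -/
theorem GAux_sum_cnt_le_card_normal {G : Type*} [Group G] [Finite G] (N : Subgroup G) [N.Normal]
    (T : Finset ℕ) (hT : ∀ m ∈ T, m.Coprime N.index) :
    ∑ m ∈ T, Nat.card {g : G // orderOf g = m} ≤ Nat.card N := by
  rw [GAux_sum_cnt]
  apply Nat.card_le_card_of_injective
    (fun g : {g : G // orderOf g ∈ T} => (⟨g.1, GAux_mem_of_coprime_index N g.1 (hT _ g.2)⟩ : N))
  intro a b hab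
  apply Subtype.ext
  exact congrArg (fun z : N => (z : G)) hab

theorem GAux_cnt_one {G : Type*} [Group G] : Nat.card {g : G // orderOf g = 1} = 1 := by
  rw [Nat.card_eq_one_iff_unique]
  refine ⟨⟨?_⟩, ⟨⟨1, orderOf_one⟩⟩⟩
  intro a b
  apply Subtype.ext
  rw [orderOf_eq_one_iff.mp a.2, orderOf_eq_one_iff.mp b.2]

/-- an element of order `m` exists when the count is nonzero -/
theorem GAux_exists_of_cnt_ne_zero {G : Type*} [Group G] {m : ℕ}
    (h : Nat.card {g : G // orderOf g = m} ≠ 0) : ∃ g : G, orderOf g = m := by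
  by_contra hcon
  push_neg at hcon
  haveI : IsEmpty {g : G // orderOf g = m} := ⟨fun g => hcon g.1 g.2⟩
  exact h Nat.card_of_isEmpty

theorem GAux_cnt_ne_zero {G : Type*} [Group G] [Finite G] (g : G) :
    Nat.card {h : G // orderOf h = orderOf g} ≠ 0 := by
  haveI : Nonempty {h : G // orderOf h = orderOf g} := ⟨⟨g, rfl⟩⟩
  exact Nat.card_pos.ne'

/-- conjugation by an element of prime order `p` without fixed points on a finite invariant set `W`
forces `p ∣ |W|` -/
theorem GAux_dvd_ncard_of_fpf {G : Type*} [Group G] [Finite G] (p : ℕ) [Fact p.Prime] (x : G)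
    (hx : x ^ p = 1) (W : Set G) (hW : ∀ w : G, w ∈ W ↔ x * w * x⁻¹ ∈ W)
    (hfpf : ∀ w ∈ W, x * w ≠ w * x) : p ∣ Nat.card W := by
  classical
  haveI := Fintype.ofFinite W
  let σ : Equiv.Perm W :=
    { toFun := fun w => ⟨x * w.1 * x⁻¹, (hW w.1).mp w.2⟩
      invFun := fun w => ⟨x⁻¹ * w.1 * x, (hW _).mpr (by
        have : x * (x⁻¹ * w.1 * x) * x⁻¹ = w.1 := by group
        rw [this]; exact w.2)⟩
      left_inv := fun w => by apply Subtype.ext; simp only []; group
      right_inv := fun w => by apply Subtype.ext; simp only []; group }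
  have hpow : ∀ (k : ℕ) (w : W), (((σ ^ k) w : W) : G) = x ^ k * w.1 * (x⁻¹) ^ k := by
    intro k
    induction k with
    | zero => intro w; simp
    | succ k ih =>
      intro w
      rw [pow_succ, Equiv.Perm.mul_apply, ih]
      show x ^ k * (x * w.1 * x⁻¹) * x⁻¹ ^ k = x ^ (k + 1) * w.1 * x⁻¹ ^ (k + 1)
      rw [pow_succ, pow_succ']
      group
  have hσ : σ ^ p ^ 1 = 1 := by
    rw [pow_one]
    ext w
    rw [hpow, inv_pow, hx]
    simp
  by_contra hnd
  rw [Nat.card_eq_fintype_card] at hnd
  obtain ⟨a, ha⟩ := Equiv.Perm.exists_fixed_point_of_prime hnd hσ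
  have h1 : x * a.1 * x⁻¹ = a.1 := congrArg Subtype.val ha
  apply hfpf a.1 a.2
  calc x * a.1 = (x * a.1 * x⁻¹) * x := by group
    _ = a.1 * x := by rw [h1]

/-- fixed-point-free conjugation on a normal subgroup: `p ∣ |N| - 1` -/
theorem GAux_dvd_card_sub_one {G : Type*} [Group G] [Finite G] (p : ℕ) [Fact p.Prime] (x : G)
    (hx : x ^ p = 1) (N : Subgroup G) [hN : N.Normal]
    (hfpf : ∀ w ∈ N, w ≠ 1 → x * w ≠ w * x) : p ∣ Nat.card N - 1 := by
  have h := GAux_dvd_ncard_of_fpf p x hx {w : G | w ∈ N ∧ w ≠ 1}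
    (by
      intro w
      simp only [Set.mem_setOf_eq]
      constructor
      · rintro ⟨h1, h2⟩
        refine ⟨hN.conj_mem w h1 x, ?_⟩
        intro h3
        apply h2
        have : w = x⁻¹ * (x * w * x⁻¹) * x := by group
        rw [this, h3]; group
      · rintro ⟨h1, h2⟩
        refine ⟨?_, ?_⟩
        · have := hN.conj_mem _ h1 x⁻¹
          have e : x⁻¹ * (x * w * x⁻¹) * x⁻¹⁻¹ = w := by group
          rwa [e] at this
        · rintro rfl
          apply h2; group)
    (by rintro w ⟨h1, h2⟩; exact hfpf w h1 h2)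
  have hc : Nat.card {w : G | w ∈ N ∧ w ≠ 1} = Nat.card N - 1 := by
    have e : {w : G | w ∈ N ∧ w ≠ 1} ≃ {w : N // w ≠ 1} :=
      { toFun := fun w => ⟨⟨w.1, w.2.1⟩, fun h => w.2.2 (congrArg Subtype.val h)⟩
        invFun := fun w => ⟨w.1.1, w.1.2, fun h => w.2 (Subtype.ext h)⟩
        left_inv := fun w => rfl
        right_inv := fun w => rfl }
    rw [Nat.card_congr e]
    classical
    haveI := Fintype.ofFinite N
    rw [Nat.card_eq_fintype_card, Nat.card_eq_fintype_card, Fintype.card_subtype_compl,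
      Fintype.card_subtype_eq]
  rwa [hc] at h

end Cfsg.Agent.S3431L
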