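import Mathlib
import Cfsg.Agent.Lib.S3431.Defs
import Cfsg.Agent.Lib.S3431.GAux

set_option autoImplicit false

namespace Cfsg.Agent.S3431L

/-- a normal subgroup containing one element of order `p` (`p ∥ |G|` or not) contains ... : see the notes -/
theorem simple_of_60 {G : Type*} [Group G] [Finite G] (hN : Nat.card G = 60)
    (h2 : Nat.card {g : G // orderOf g = 2} = 15) (h3 : Nat.card {g : G // orderOf g = 3} = 20)
    (h5 : Nat.card {g : G // orderOf g = 5} = 24) : IsSimpleGroup G := by
  haveI : Nontrivial G := Finite.one_lt_card_iff_nontrivial.mp (by omega)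
  have h1 : Nat.card {g : G // orderOf g = 1} = 1 := GAux_cnt_one
  -- every element has order 1, 2, 3 or 5
  have hord : ∀ g : G, orderOf g ∈ ({1, 2, 3, 5} : Finset ℕ) := by
    apply GAux_orderOf_mem
    rw [hN, Finset.sum_insert (by decide), Finset.sum_insert (by decide),
      Finset.sum_pair (by decide), h1, h2, h3, h5]
    norm_num
  refine ⟨fun N hNn => ?_⟩
  by_contra hcon
  push_neg at hcon
  obtain ⟨hbot, htop⟩ := hcon
  have hidx : Nat.card N * N.index = 60 := by rw [Subgroup.card_mul_index, hN]
  have hn1 : 1 < Nat.card N := N.one_lt_card_iff_ne_bot.mpr hbot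
  have hk1 : N.index ≠ 1 := fun h => htop (Subgroup.index_eq_one.mp h)
  have hk0 : N.index ≠ 0 := by intro h; rw [h] at hidx; omega
  -- step 1: 5 ∤ |N|
  have s1 : ¬ 5 ∣ Nat.card N := by
    intro hd
    have hc5 : Nat.Coprime 5 N.index := by
      rw [Nat.Prime.coprime_iff_not_dvd (by norm_num)]
      intro hk
      have : 5 * 5 ∣ Nat.card N * N.index := Nat.mul_dvd_mul hd hk
      rw [hidx] at this
      omega
    have hle := GAux_sum_cnt_le_card_normal N {1, 5} (by
      intro m hm
      simp only [Finset.mem_insert, Finset.mem_singleton] at hm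
      rcases hm with rfl | rfl
      · exact Nat.coprime_one_left _
      · exact hc5)
    rw [Finset.sum_pair (by decide), h1, h5] at hle
    have hk2 : N.index = 2 := by
      have : N.index ≤ 2 := by
        by_contra h
        push_neg at h
        nlinarith
      omega
    have hle2 := GAux_sum_cnt_le_card_normal N {1, 3, 5} (by
      intro m hm
      simp only [Finset.mem_insert, Finset.mem_singleton] at hm
      rw [hk2]
      rcases hm with rfl | rfl | rfl <;> norm_num)
    rw [Finset.sum_insert (by decide), Finset.sum_pair (by decide), h1, h3, h5] at hle2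
    rw [hk2] at hidx
    omega
  -- |N| divides 12
  have hd12 : Nat.card N ∣ 12 := by
    have hc : Nat.Coprime (Nat.card N) 5 :=
      ((Nat.Prime.coprime_iff_not_dvd (by norm_num)).mpr s1).symm
    have : Nat.card N ∣ 5 * 12 := ⟨N.index, by rw [hidx]⟩
    exact hc.dvd_of_dvd_mul_left this
  -- step 2: 3 ∤ |N|
  have s2 : ¬ 3 ∣ Nat.card N := by
    intro hd
    have hc3 : Nat.Coprime 3 N.index := by
      rw [Nat.Prime.coprime_iff_not_dvd (by norm_num)]
      intro hk
      have : 3 * 3 ∣ Nat.card N * N.index := Nat.mul_dvd_mul hd hk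
      rw [hidx] at this
      omega
    have hle := GAux_sum_cnt_le_card_normal N {1, 3} (by
      intro m hm
      simp only [Finset.mem_insert, Finset.mem_singleton] at hm
      rcases hm with rfl | rfl
      · exact Nat.coprime_one_left _
      · exact hc3)
    rw [Finset.sum_pair (by decide), h1, h3] at hle
    have := Nat.le_of_dvd (by norm_num) hd12
    omega
  -- so |N| divides 4
  have hd4 : Nat.card N ∣ 4 := by
    have hc : Nat.Coprime (Nat.card N) 3 :=
      ((Nat.Prime.coprime_iff_not_dvd (by norm_num)).mpr s2).symm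
    have : Nat.card N ∣ 3 * 4 := hd12
    exact hc.dvd_of_dvd_mul_left this
  -- an element of order 5 acts without fixed points on N
  obtain ⟨x, hx⟩ := GAux_exists_of_cnt_ne_zero (G := G) (m := 5) (by rw [h5]; norm_num)
  haveI : Fact (Nat.Prime 5) := ⟨by norm_num⟩
  have hfpf : ∀ w ∈ N, w ≠ 1 → x * w ≠ w * x := by
    intro w hw hw1 hcomm
    have hwo : orderOf w ∣ 4 := by
      have : orderOf (⟨w, hw⟩ : N) ∣ Nat.card N := orderOf_dvd_natCard _
      rw [Subgroup.orderOf_mk] at this
      exact this.trans hd4
    have hcop : (orderOf x).Coprime (orderOf w) := by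
      rw [hx]
      exact Nat.Coprime.coprime_dvd_right hwo (by norm_num)
    have hmul := Commute.orderOf_mul_eq_mul_orderOf_of_coprime (show Commute x w from hcomm) hcop
    have hmem := hord (x * w)
    rw [hmul, hx] at hmem
    have hw1' : orderOf w ≠ 1 := fun h => hw1 (orderOf_eq_one_iff.mp h)
    have hwpos : 0 < orderOf w := orderOf_pos w
    have hle4 : orderOf w ≤ 4 := Nat.le_of_dvd (by norm_num) hwo
    simp only [Finset.mem_insert, Finset.mem_singleton] at hmem
    omega
  have hdvd := GAux_dvd_card_sub_one 5 x (by rw [← hx, pow_orderOf_eq_one]) N hfpf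
  have hle4 : Nat.card N ≤ 4 := Nat.le_of_dvd (by norm_num) hd4
  omega

end Cfsg.Agent.S3431L
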