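import Mathlib
import Cfsg.Agent.Lib.S3431.Defs

/-!
# S3431 piece G6 (helper5): a group of order 360 with the same-order counts of `A_6` is simple
-/

set_option autoImplicit false

namespace Cfsg.Agent.S3431L

/-- (F) orbit counting: `x` of prime order `p` permutes by conjugation a finite set `T` none of whose
elements commutes with `x`; then `p ∣ |T|`. -/
theorem G6_dvd_card_of_conj {G : Type*} [Group G] (p : ℕ) [hp : Fact p.Prime] (x : G) (hx : x ^ p = 1)
    (T : Finset G) (hT : ∀ y ∈ T, x * y * x⁻¹ ∈ T) (hfix : ∀ y ∈ T, x * y * x⁻¹ ≠ y) :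
    p ∣ T.card := by
  classical
  let f : Function.End ↥T := fun y => ⟨x * y * x⁻¹, hT y y.2⟩
  have hpow : ∀ n : ℕ, ∀ y : ↥T, (((f ^ n) y : ↥T) : G) = x ^ n * y * (x ^ n)⁻¹ := by
    intro n
    induction n with
    | zero => intro y; rw [pow_zero, pow_zero, inv_one, one_mul, mul_one]; rfl
    | succ n ih =>
      intro y
      rw [pow_succ']
      show x * (((f ^ n) y : ↥T) : G) * x⁻¹ = _
      rw [ih y, pow_succ']; group
  have hf : f ^ p ^ 1 = 1 := by
    funext y
    apply Subtype.ext
    rw [pow_one, hpow p y, hx, one_mul, inv_one, mul_one]; rfl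
  have h := Equiv.Perm.card_fixedPoints_modEq (p := p) (n := 1) hf
  have h0 : Fintype.card (Function.fixedPoints f) = 0 := by
    rw [Fintype.card_eq_zero_iff]
    refine ⟨fun y => hfix y.1 y.1.2 ?_⟩
    have := congrArg Subtype.val y.2
    exact this
  rw [h0, Fintype.card_coe] at h
  exact (Nat.modEq_zero_iff_dvd).mp h

/-- (S) a normal subgroup whose index is prime to the order of `g` contains `g`. -/
theorem G6_mem_of_coprime_index {G : Type*} [Group G] [Finite G] (N : Subgroup G) [N.Normal] (g : G)
    (h : (orderOf g).Coprime N.index) : g ∈ N := by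
  rw [← QuotientGroup.eq_one_iff, ← orderOf_eq_one_iff]
  have h1 : orderOf (g : G ⧸ N) ∣ orderOf g := orderOf_map_dvd (QuotientGroup.mk' N) g
  have h2 : orderOf (g : G ⧸ N) ∣ N.index := by
    rw [Subgroup.index_eq_card]; exact orderOf_dvd_natCard _
  have := Nat.dvd_gcd h1 h2
  rw [h.gcd_eq_one] at this
  exact Nat.dvd_one.mp this

/-- (C1) counting: all elements of order `m ≠ 1` in `N`. -/
theorem G6_card_ge1 {G : Type*} [Group G] [Finite G] (N : Subgroup G) (m : ℕ) (hm : m ≠ 1)
    (h : ∀ g : G, orderOf g = m → g ∈ N) :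
    Nat.card {g : G // orderOf g = m} + 1 ≤ Nat.card N := by
  have hinj : Function.Injective
      (Sum.elim (fun g : {g : G // orderOf g = m} => (⟨g.1, h g.1 g.2⟩ : ↥N))
        (fun _ : Unit => (1 : ↥N))) := by
    rintro (a | u) (a' | u') hh
    · simp only [Sum.elim_inl, Subtype.mk.injEq] at hh
      exact congrArg Sum.inl (Subtype.ext hh)
    · exfalso
      simp only [Sum.elim_inl, Sum.elim_inr] at hh
      have h1 : (a.1 : G) = 1 := congrArg Subtype.val hh
      have := a.2; rw [h1, orderOf_one] at this; exact hm this.symm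
    · exfalso
      simp only [Sum.elim_inl, Sum.elim_inr] at hh
      have h1 : (a'.1 : G) = 1 := (congrArg Subtype.val hh).symm
      have := a'.2; rw [h1, orderOf_one] at this; exact hm this.symm
    · rfl
  have := Nat.card_le_card_of_injective _ hinj
  rwa [Nat.card_sum, show Nat.card Unit = 1 from Nat.card_unique] at this

/-- (C2) counting: all elements of orders `m₁ ≠ m₂`, both `≠ 1`, in `N`. -/
theorem G6_card_ge2 {G : Type*} [Group G] [Finite G] (N : Subgroup G) (m₁ m₂ : ℕ) (hm₁ : m₁ ≠ 1)
    (hm₂ : m₂ ≠ 1) (h12 : m₁ ≠ m₂) (h₁ : ∀ g : G, orderOf g = m₁ → g ∈ N)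
    (h₂ : ∀ g : G, orderOf g = m₂ → g ∈ N) :
    Nat.card {g : G // orderOf g = m₁} + Nat.card {g : G // orderOf g = m₂} + 1 ≤ Nat.card N := by
  have hinj : Function.Injective
      (Sum.elim (fun g : {g : G // orderOf g = m₁} => (⟨g.1, h₁ g.1 g.2⟩ : ↥N))
        (Sum.elim (fun g : {g : G // orderOf g = m₂} => (⟨g.1, h₂ g.1 g.2⟩ : ↥N))
          (fun _ : Unit => (1 : ↥N)))) := by
    rintro (a | b | u) (a' | b' | u') hh
    · simp only [Sum.elim_inl, Subtype.mk.injEq] at hh
      exact congrArg Sum.inl (Subtype.ext hh)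
    · exfalso
      simp only [Sum.elim_inl, Sum.elim_inr, Subtype.mk.injEq] at hh
      have := a.2; rw [hh, b'.2] at this; exact h12 this.symm
    · exfalso
      simp only [Sum.elim_inl, Sum.elim_inr] at hh
      have h1 : (a.1 : G) = 1 := congrArg Subtype.val hh
      have := a.2; rw [h1, orderOf_one] at this; exact hm₁ this.symm
    · exfalso
      simp only [Sum.elim_inl, Sum.elim_inr, Subtype.mk.injEq] at hh
      have := b.2; rw [hh, a'.2] at this; exact h12 this
    · simp only [Sum.elim_inl, Sum.elim_inr, Subtype.mk.injEq] at hh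
      exact congrArg (Sum.inr ∘ Sum.inl) (Subtype.ext hh)
    · exfalso
      simp only [Sum.elim_inl, Sum.elim_inr] at hh
      have h1 : (b.1 : G) = 1 := congrArg Subtype.val hh
      have := b.2; rw [h1, orderOf_one] at this; exact hm₂ this.symm
    · exfalso
      simp only [Sum.elim_inl, Sum.elim_inr] at hh
      have h1 : (a'.1 : G) = 1 := (congrArg Subtype.val hh).symm
      have := a'.2; rw [h1, orderOf_one] at this; exact hm₁ this.symm
    · exfalso
      simp only [Sum.elim_inl, Sum.elim_inr] at hh
      have h1 : (b'.1 : G) = 1 := (congrArg Subtype.val hh).symm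
      have := b'.2; rw [h1, orderOf_one] at this; exact hm₂ this.symm
    · rfl
  have := Nat.card_le_card_of_injective _ hinj
  rwa [Nat.card_sum, Nat.card_sum, show Nat.card Unit = 1 from Nat.card_unique, ← add_assoc] at this

/-- (M) if all element orders are `≤ 5`, `x` has order `5` and `5 ∤ |N|` for a normal `N`, then
`|N| ≡ 1 mod 5`. -/
theorem G6_card_modEq {G : Type*} [Group G] [Finite G] (hord : ∀ g : G, orderOf g ≤ 5) (x : G)
    (hx : orderOf x = 5) (N : Subgroup G) [hN : N.Normal] (h5 : ¬ 5 ∣ Nat.card N) :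
    5 ∣ Nat.card N - 1 := by
  classical
  have : Fintype G := Fintype.ofFinite G
  have : Fact (Nat.Prime 5) := ⟨by norm_num⟩
  have hx5 : x ^ 5 = 1 := by rw [← hx]; exact pow_orderOf_eq_one x
  have hU : (Finset.univ.filter (fun y : G => y ∈ N)).card = Nat.card N := by
    rw [Nat.card_eq_fintype_card, Fintype.card_subtype]
  have h1U : (1 : G) ∈ Finset.univ.filter (fun y : G => y ∈ N) := by
    simp [Subgroup.one_mem]
  have hT := G6_dvd_card_of_conj 5 x hx5 ((Finset.univ.filter (fun y : G => y ∈ N)).erase 1)
    (by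
      intro y hy
      rw [Finset.mem_erase, Finset.mem_filter] at hy ⊢
      refine ⟨?_, Finset.mem_univ _, hN.conj_mem y hy.2.2 x⟩
      intro h1
      apply hy.1
      have : y = x⁻¹ * (x * y * x⁻¹) * x := by group
      rw [this, h1]; group)
    (by
      intro y hy hfix
      rw [Finset.mem_erase, Finset.mem_filter] at hy
      have hcomm : Commute x y := by
        have : x * y = y * x := by
          calc x * y = (x * y * x⁻¹) * x := by group
            _ = y * x := by rw [hfix]
        exact this
      have hoy : orderOf y ∣ Nat.card N := Subgroup.orderOf_dvd_natCard N hy.2.2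
      have hcop : (orderOf x).Coprime (orderOf y) := by
        rw [hx]
        apply (Nat.Prime.coprime_iff_not_dvd (by norm_num)).mpr
        intro h; exact h5 (h.trans hoy)
      have hmul := hcomm.orderOf_mul_eq_mul_orderOf_of_coprime hcop
      have hy2 : 2 ≤ orderOf y := by
        have hpos : 0 < orderOf y := orderOf_pos y
        have hne : orderOf y ≠ 1 := by
          intro h; exact hy.1 (orderOf_eq_one_iff.mp h)
        omega
      have := hord (x * y)
      rw [hmul, hx] at this
      omega)
  rwa [Finset.card_erase_of_mem h1U, hU] at hT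

/-- (six) no normal subgroup of order `6` when all orders are `≤ 5` and there is an element of
order `5`. -/
theorem G6_no_normal_six {G : Type*} [Group G] [Finite G] (hord : ∀ g : G, orderOf g ≤ 5) (x : G)
    (hx : orderOf x = 5) (N : Subgroup G) [hN : N.Normal] (h6 : Nat.card N = 6) : False := by
  classical
  have : Fintype G := Fintype.ofFinite G
  have : Fact (Nat.Prime 5) := ⟨by norm_num⟩
  have : Fact (Nat.Prime 3) := ⟨by norm_num⟩
  have : Fact (Nat.Prime 2) := ⟨by norm_num⟩
  have hx5 : x ^ 5 = 1 := by rw [← hx]; exact pow_orderOf_eq_one x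
  obtain ⟨y0, hy0⟩ := exists_prime_orderOf_dvd_card' (G := ↥N) 3 (by rw [h6]; norm_num)
  obtain ⟨z0, hz0⟩ := exists_prime_orderOf_dvd_card' (G := ↥N) 2 (by rw [h6]; norm_num)
  rw [← Subgroup.orderOf_coe] at hy0 hz0
  have hU : (Finset.univ.filter (fun y : G => y ∈ N)).card = 6 := by
    rw [← h6, Nat.card_eq_fintype_card, Fintype.card_subtype]
  have hT := G6_dvd_card_of_conj 5 x hx5 (Finset.univ.filter (fun y : G => y ∈ N ∧ orderOf y = 3))
    (by
      intro y hy
      rw [Finset.mem_filter] at hy ⊢
      refine ⟨Finset.mem_univ _, hN.conj_mem y hy.2.1 x, ?_⟩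
      have : x * y * x⁻¹ = MulAut.conj x y := by simp [MulAut.conj_apply]
      rw [this, MulEquiv.orderOf_eq]; exact hy.2.2)
    (by
      intro y hy hfix
      rw [Finset.mem_filter] at hy
      have hcomm : Commute x y := by
        have : x * y = y * x := by
          calc x * y = (x * y * x⁻¹) * x := by group
            _ = y * x := by rw [hfix]
        exact this
      have hcop : (orderOf x).Coprime (orderOf y) := by
        rw [hx, hy.2.2]; norm_num
      have hmul := hcomm.orderOf_mul_eq_mul_orderOf_of_coprime hcop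
      have := hord (x * y)
      rw [hmul, hx, hy.2.2] at this
      omega)
  have hsub : Finset.univ.filter (fun y : G => y ∈ N ∧ orderOf y = 3) ⊆
      ((Finset.univ.filter (fun y : G => y ∈ N)).erase 1).erase (z0 : G) := by
    intro y hy
    rw [Finset.mem_filter] at hy
    rw [Finset.mem_erase, Finset.mem_erase, Finset.mem_filter]
    refine ⟨?_, ?_, Finset.mem_univ _, hy.2.1⟩
    · intro h; have := hy.2.2; rw [h, hz0] at this; omega
    · intro h; have := hy.2.2; rw [h, orderOf_one] at this; omega
  have hz1 : (z0 : G) ≠ 1 := by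
    intro h; rw [h, orderOf_one] at hz0; omega
  have hcard : (((Finset.univ.filter (fun y : G => y ∈ N)).erase 1).erase (z0 : G)).card = 4 := by
    rw [Finset.card_erase_of_mem, Finset.card_erase_of_mem, hU]
    · simp [Subgroup.one_mem]
    · rw [Finset.mem_erase, Finset.mem_filter]
      exact ⟨hz1, Finset.mem_univ _, z0.2⟩
  have hle := Finset.card_le_card hsub
  rw [hcard] at hle
  have hpos : 0 < (Finset.univ.filter (fun y : G => y ∈ N ∧ orderOf y = 3)).card := by
    apply Finset.card_pos.mpr
    exact ⟨(y0 : G), by rw [Finset.mem_filter]; exact ⟨Finset.mem_univ _, y0.2, hy0⟩⟩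
  obtain ⟨k, hk⟩ := hT
  omega

theorem simple_of_360 {G : Type*} [Group G] [Finite G] (hN : Nat.card G = 360)
    (h2 : Nat.card {g : G // orderOf g = 2} = 45) (h3 : Nat.card {g : G // orderOf g = 3} = 80)
    (h4 : Nat.card {g : G // orderOf g = 4} = 90) (h5 : Nat.card {g : G // orderOf g = 5} = 144)
    (hbig : ∀ m, 5 < m → Nat.card {g : G // orderOf g = m} = 0) : IsSimpleGroup G := by
  have hord : ∀ g : G, orderOf g ≤ 5 := by
    intro g
    by_contra hlt
    push Not at hlt
    have h0 := hbig (orderOf g) hlt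
    rw [Nat.card_eq_zero] at h0
    rcases h0 with h0 | h0
    · exact h0.false ⟨g, rfl⟩
    · exact h0.false
  obtain ⟨x, hx⟩ : ∃ x : G, orderOf x = 5 := by
    have : Nonempty {g : G // orderOf g = 5} := by
      by_contra hne
      rw [not_nonempty_iff] at hne
      rw [Nat.card_of_isEmpty] at h5
      omega
    obtain ⟨⟨x, hx⟩⟩ := this
    exact ⟨x, hx⟩
  have : Nontrivial G := by
    rw [← Finite.one_lt_card_iff_nontrivial, hN]; norm_num
  refine ⟨fun N hNn => ?_⟩
  by_contra hcon
  push Not at hcon
  obtain ⟨hbot, htop⟩ := hcon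
  have := hNn
  have hci : Nat.card N * N.index = 360 := by rw [Subgroup.card_mul_index, hN]
  have hc1 : Nat.card N ≠ 1 := fun h => hbot (Subgroup.eq_bot_of_card_eq N h)
  have hi1 : N.index ≠ 1 := fun h => htop (Subgroup.index_eq_one.mp h)
  have hcpos : 0 < Nat.card N := Nat.card_pos
  obtain ⟨c, hc⟩ : ∃ c, c = Nat.card N := ⟨_, rfl⟩
  obtain ⟨i, hi⟩ : ∃ i, i = N.index := ⟨_, rfl⟩
  rw [← hc, ← hi] at hci
  rw [← hc] at hc1 hcpos
  rw [← hi] at hi1
  by_cases h5c : 5 ∣ c
  · -- all elements of order 5 lie in N
    obtain ⟨c', rfl⟩ := h5c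
    have hi72 : c' * i = 72 := by
      have : 5 * (c' * i) = 360 := by rw [← mul_assoc]; exact hci
      omega
    have hcop5 : Nat.Coprime 5 i := by
      apply (Nat.Prime.coprime_iff_not_dvd (by norm_num)).mpr
      rintro ⟨i', rfl⟩
      have : 5 * (c' * i') = 72 := by rw [← hi72]; ring
      omega
    have hall5 : ∀ g : G, orderOf g = 5 → g ∈ N := by
      intro g hg
      apply G6_mem_of_coprime_index
      rw [hg, ← hi]; exact hcop5
    have hge := G6_card_ge1 N 5 (by norm_num) hall5
    rw [h5, ← hc] at hge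
    -- so c' ≥ 29, c' * i = 72, i ≠ 1 → i = 2
    have hi2 : i = 2 := by
      have hile : i ≤ 2 := by
        by_contra hgt
        push Not at hgt
        have : c' * 3 ≤ c' * i := Nat.mul_le_mul_left c' hgt
        omega
      have hipos : 0 < i := by
        rcases Nat.eq_zero_or_pos i with h0 | h0
        · rw [h0] at hi72; omega
        · exact h0
      omega
    have hall3 : ∀ g : G, orderOf g = 3 → g ∈ N := by
      intro g hg
      apply G6_mem_of_coprime_index
      rw [hg, ← hi, hi2]; norm_num
    have hge2 := G6_card_ge2 N 5 3 (by norm_num) (by norm_num) (by norm_num) hall5 hall3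
    rw [h5, h3, ← hc] at hge2
    rw [hi2] at hi72
    omega
  · have hmod := G6_card_modEq hord x hx N (by rw [← hc]; exact h5c)
    rw [← hc] at hmod
    obtain ⟨k, hk⟩ := hmod
    -- 5 ∣ i
    have h5i : 5 ∣ i := by
      have : 5 ∣ c * i := by rw [hci]; norm_num
      rcases (Nat.Prime.dvd_mul (by norm_num)).mp this with h | h
      · exact absurd h h5c
      · exact h
    obtain ⟨j, rfl⟩ := h5i
    have hcj : c * j = 72 := by
      have : c * (5 * j) = 5 * (c * j) := by ring
      omega
    have hjle : j ≤ 72 := by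
      have : 0 < c := hcpos
      by_contra hgt
      push Not at hgt
      have : c * 73 ≤ c * j := Nat.mul_le_mul_left c hgt
      omega
    have hc6 : c = 6 ∨ c = 36 := by
      interval_cases j <;> omega
    rcases hc6 with h6 | h36
    · exact G6_no_normal_six hord x hx N (by rw [← hc]; exact h6)
    · have hj : j = 2 := by rw [h36] at hcj; omega
      have hall3 : ∀ g : G, orderOf g = 3 → g ∈ N := by
        intro g hg
        apply G6_mem_of_coprime_index
        rw [hg, ← hi, hj]; norm_num
      have hge := G6_card_ge1 N 3 (by norm_num) hall3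
      rw [h3, ← hc, h36] at hge
      omega

end Cfsg.Agent.S3431L
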