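import Cfsg.Agent.Lib.S3431.Defs
import Cfsg.Agent.H1.SameOrderType

set_option autoImplicit false
set_option linter.style.haveILetI false

namespace Cfsg.Agent.S3431L

open Cfsg.Agent.H1.SOT

theorem GL_exists_of_ne_zero {G : Type*} [Group G] {m : ℕ}
    (h : Nat.card {g : G // orderOf g = m} ≠ 0) : ∃ g : G, orderOf g = m := by
  by_contra hne
  exact h (cnt_eq_zero m hne)

theorem valid_of_nse {G : Type*} [Group G] [Finite G] (S : List ℕ)
    (h : ((fun m : ℕ => Nat.card {g : G // orderOf g = m}) '' Set.range (orderOf : G → ℕ)) =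
      {v | v ∈ S}) :
    Valid S (Nat.card G) (fun m : ℕ => Nat.card {g : G // orderOf g = m}) := by
  classical
  have hpos : 0 < Nat.card G := Nat.card_pos
  refine ⟨hpos, cnt_one, ?_, ?_, ?_, ?_, ?_, ?_, ?_, ?_⟩
  · -- mem
    intro m
    by_cases hm : ∃ g : G, orderOf g = m
    · right
      have : Nat.card {g : G // orderOf g = m} ∈
          ((fun m : ℕ => Nat.card {g : G // orderOf g = m}) '' Set.range (orderOf : G → ℕ)) := by
        obtain ⟨g, hg⟩ := hm
        exact ⟨m, ⟨g, hg⟩, rfl⟩
      rw [h] at this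
      exact this
    · left
      exact cnt_eq_zero m hm
  · -- tot
    intro m
    haveI := Fintype.ofFinite G
    have := Cfsg.Agent.Lib.Helper4.FrobDiv.totient_dvd_card_orderOf (G := G) m
    show Nat.totient m ∣ Nat.card {g : G // orderOf g = m}
    rw [Nat.card_eq_fintype_card, Fintype.card_subtype]
    convert this using 2
  · -- frob
    intro m hm
    have hm0 : m ≠ 0 := by
      rintro rfl
      rw [zero_dvd_iff] at hm
      omega
    have h1 := dvd_tor (G := G) m hm
    rw [tor_eq_sum m hm0] at h1
    exact h1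
  · -- supp
    intro m hm
    obtain ⟨g, rfl⟩ := GL_exists_of_ne_zero hm
    exact orderOf_dvd_natCard g
  · -- total
    have h1 := tor_eq_sum (G := G) (Nat.card G) hpos.ne'
    show ∑ m ∈ (Nat.card G).divisors, cnt G m = Nat.card G
    rw [← h1]
    unfold tor
    have : Nat.card {g : G // g ^ Nat.card G = 1} = Nat.card G := by
      apply Nat.card_congr
      exact Equiv.subtypeUnivEquiv (fun g => pow_card_eq_one')
    exact this
  · -- cauchy
    intro p hp hpN
    haveI : Fact p.Prime := ⟨hp⟩
    obtain ⟨g, hg⟩ := exists_prime_orderOf_dvd_card' p hpN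
    have := cnt_pos g
    rw [hg] at this
    exact this.ne'
  · -- closed
    intro m d hm hd
    obtain ⟨g, rfl⟩ := GL_exists_of_ne_zero hm
    obtain ⟨k, hk⟩ := hd
    have hpos' : 0 < orderOf g := orderOf_pos g
    have hk0 : k ≠ 0 := by
      rintro rfl
      rw [mul_zero] at hk
      omega
    have hd0 : d ≠ 0 := by
      rintro rfl
      rw [zero_mul] at hk
      omega
    have hord : orderOf (g ^ k) = d := by
      rw [orderOf_pow_of_dvd hk0 ⟨d, by rw [hk, mul_comm]⟩, hk]
      exact Nat.mul_div_cancel _ (Nat.pos_of_ne_zero hk0)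
    have := cnt_pos (g ^ k)
    rw [hord] at this
    exact this.ne'
  · -- attained
    intro v hv
    have : v ∈ {v | v ∈ S} := hv
    rw [← h] at this
    obtain ⟨m, _, hm⟩ := this
    exact ⟨m, hm⟩

end Cfsg.Agent.S3431L
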